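import Cfsg.Agent.Co2L.XA

/-!
The structure of the centraliser of the centre of a Sylow 3-subgroup (definitions).
-/

set_option autoImplicit false

namespace Cfsg.Agent.Co2L

open Subgroup Cfsg Cfsg.Agent.Comp Cfsg.Agent.X32.TG Cfsg.Agent.PLocal.Amb
open Cfsg.Agent.Loc3 Cfsg.Agent.Loc3.Pr
open Cfsg.Agent.X32 (TG Tab sub Mem)
open Cfsg.Agent.PS4 (K2 J2 S2 Q2 cjm pow3)

variable {G : Type*} [Group G]

/-- the extraspecial group of order 243 -/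
noncomputable def QH (φ : K2 →* G) (m : G) : Subgroup G := Q2.map φ ⊔ cj(m, Q2.map φ)

/-- `K2 = 3^(1+2):SL2(3)`, `z = φ (e 1)`, `j = φ (e 135)`, `σ = φ (e 189)`, `s = m σ m⁻¹`. -/
structure HA (φ : K2 →* G) (m : G) : Prop where
  inj : Function.Injective φ
  m2 : m * m = 1
  mz : Commute m (φ (e 1))
  mj : Commute m (φ (e 135))
  cm : ∀ k ∈ M2, ∀ l ∈ M2, Commute (φ k) (m * φ l * m⁻¹)
  cs : ∀ g, Commute g (φ (e 1)) → Commute g (m * φ (e 189) * m⁻¹) →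
    ∃ k, ∃ l ∈ Q8, g = φ k * (m * φ l * m⁻¹)
  nQ : ∀ g, Commute g (φ (e 1)) → g ∈ 𝐍[QH φ m]
  cQ : ∀ g, (∀ q ∈ QH φ m, Commute g q) → g ∈ zpowers (φ (e 1))
  syl : IsSyl 3 (QH φ m ⊔ zpowers (φ (e 135))) ⊤
  nwc : ∃ g, g * φ (e 1) * g⁻¹ ∈ QH φ m ⊔ zpowers (φ (e 135)) ∧
    g * φ (e 1) * g⁻¹ ∉ zpowers (φ (e 1))
  inv : ∃ w, Commute w (φ (e 1)) ∧ w * φ (e 135) * w⁻¹ * φ (e 135) ∈ QH φ m

end Cfsg.Agent.Co2L
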