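import Cfsg.Agent.Co2L.HA2
import Cfsg.Agent.Co2L.HD

/-!
Groups of shape `3^(1+4).2^(1+4).A5`: the embedding of `3^(1+2):SL2(3)`.
-/

set_option autoImplicit false
set_option maxRecDepth 100000
set_option synthInstance.maxHeartbeats 400000
set_option synthInstance.maxSize 4000

namespace Cfsg.Agent.Co2L

open Subgroup Cfsg Cfsg.Agent.Comp Cfsg.Agent.X32.TG Cfsg.Agent.Loc3 Cfsg.Agent.F4L
  Cfsg.Agent.PLocal.Amb Cfsg.Agent.LES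
open Cfsg.Agent.X32 (TG Tab)
open Cfsg.Agent.PS4 (K2 Q2 l2 link2 sat2 inj2 th_mem wH)
open Cfsg.Agent.Loc3.Pr (Q8)
open scoped Cfsg.Agent.Loc3.Pr

variable {G : Type*} [Group G] {q : Hs →* G} {m j g k : G} {γ δ : Ga}

theorem ex_fix (a : Ex q g γ) {v : Hs} (b : ac γ v = v) : Commute g (q v) :=
  comm_of_conj (by rw [a, b])

namespace HB
variable (h : HB q m j)
include h

theorem CQ (a : Ex q g γ) (b : Ex q k γ) : g * k⁻¹ ∈ zpowers (q (e 81)) :=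
  h.cq _ fun v => comm_of_conj (by rw [a.mul b.inv, mul_inv_cancel, ac_one])

theorem uq (a : Ex q g γ) (b : Ex q k δ) (c : γ = δ ∧ ac δ (e 81) = e 81) (g4 : g ^ 4 = 1)
    (k4 : k ^ 4 = 1) : g = k :=
  eq_of_four (qz3 q _) (ex_fix b c.2) (h.CQ (c.1 ▸ a) b) g4 k4

theorem phi [Finite G] : ∃ φ : K2 →* G, φ (e 1) = q (e 162) ∧ φ (e 135) = j ∧ φ (e 3) = q (e 1) ∧
    φ (e 5) = q (e 3) ∧ Ex q (φ (e 27)) (e 2) ∧ Ex q (φ (e 81)) (e 4) := by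
  obtain ⟨c, c4, ec⟩ := h.l4 (e 2) bd!
  obtain ⟨d, d4, ed⟩ := h.l4 (e 4) bd!
  have s4 : ∀ c : G, c ^ 4 = 1 → (c * c) ^ 4 = 1 := fun c h => by
    rw [(Commute.refl c).mul_pow, h, mul_one]
  have cdc : c * d * c = d := by
    have := h.uq ((ed.mul ec).mul ed.inv) ec.inv bd! (cj_pow c4) (by rw [inv_pow, c4, inv_one])
    rw [mul_assoc, mul_inv_eq_iff_eq_mul.1 this]; group
  obtain ⟨φ, hφ⟩ := link_hom link2 (sat2 (u := q (e 162)) (y := q (e 1)) (s := q (e 3)) (qz3 q _)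
    h.j3 (qz3 q _) (qz3 q _) (ex_fix h.ej bd!).symm (Commute.map bd! q) (ex_fix h.ej bd!)
    (Commute.map bd! q)
    (by simpa using congrArg q (bd! : (e 1 * e 3 * (e 1)⁻¹ * (e 3)⁻¹ * e 162 : Hs) = 1))
    ((h.ej _).trans (by simpa using congrArg q (bd! : ac (e 200) (e 3) = e 162 * e 3 * e 1)))
    (h.uq (ec.mul ec) (ed.mul ed) bd! (s4 c c4) (s4 d d4)) cdc
    (h.uq ((h.ej.mul ec).mul h.ej.inv) ed bd! (cj_pow c4) d4)
    (h.uq ((h.ej.mul ed).mul h.ej.inv) (ec.mul ed) bd! (cj_pow d4) (by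
      rw [show 4 = 2 * 2 from rfl, pow_mul, pow_two (c * d), ← mul_assoc, cdc, ← pow_two, ← pow_mul,
        d4]))
    (ex_fix ec bd!).symm (ex_fix ed bd!).symm ((ec _).trans (congrArg q bd!))
    ((ec _).trans (by simpa using congrArg q (bd! : ac (e 2) (e 3) = (e 1)⁻¹)))
    ((ed _).trans (by simpa using congrArg q (bd! : ac (e 4) (e 1) = e 162 * e 3 * e 1))))
  refine ⟨φ, by simpa [tup, l2, es] using hφ [0], by simpa [tup, l2, es] using hφ [2],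
    by simpa [tup, l2, es] using hφ [4], by simpa [tup, l2, es] using hφ [6], ?_, ?_⟩
  · rwa [show φ (e 27) = c by simpa [tup, l2, es] using hφ [8]]
  · rwa [show φ (e 81) = d by simpa [tup, l2, es] using hφ [10]]

theorem cmT {x y : G}
    (hx : (∃ v ∈ (es [1, 3] : List Hs), x = q v) ∨ ∃ γ ∈ (es [2, 4] : List Ga), x ^ 4 = 1 ∧ Ex q x γ)
    (hy : (∃ v ∈ (es [1, 3] : List Hs), y = q v) ∨ ∃ γ ∈ (es [2, 4] : List Ga), y ^ 4 = 1 ∧ Ex q y γ) :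
    Commute x (m * y * m⁻¹) := by
  rcases hx with ⟨v, hv, rfl⟩ | ⟨γ, hγ, x4, a⟩ <;> rcases hy with ⟨w, hw, rfl⟩ | ⟨δ, hδ, y4, b⟩
  · rw [h.em]
    exact ((bd! : ∀ v ∈ (es [1, 3] : List Hs), ∀ w ∈ (es [1, 3] : List Hs),
      Commute v (ac (e 1152) w)) v hv w hw).map q
  · exact (ex_fix ((h.em.mul b).mul h.em.inv) ((bd! : ∀ v ∈ (es [1, 3] : List Hs),
      ∀ δ ∈ (es [2, 4] : List Ga), ac (e 1152 * δ * (e 1152)⁻¹) v = v) v hv δ hδ)).symm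
  · rw [h.em]
    exact ex_fix a ((bd! : ∀ v ∈ (es [1, 3] : List Hs), ∀ δ ∈ (es [2, 4] : List Ga),
      ac δ (ac (e 1152) v) = ac (e 1152) v) w hw γ hγ)
  · have c := (h.em.mul b).mul h.em.inv
    exact comm_of_conj (h.uq ((a.mul c).mul a.inv) c ((bd! : ∀ γ ∈ (es [2, 4] : List Ga),
      ∀ δ ∈ (es [2, 4] : List Ga), γ * (e 1152 * δ * (e 1152)⁻¹) * γ⁻¹ = e 1152 * δ * (e 1152)⁻¹ ∧
        ac (e 1152 * δ * (e 1152)⁻¹) (e 81) = e 81) γ hγ δ hδ) (cj_pow (cj_pow y4)) (cj_pow y4))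

theorem ha [Finite G] (syl : IsSyl 3 (q.range ⊔ zpowers j) ⊤)
    (nwc : ∃ g, g * q (e 81) * g⁻¹ ∈ q.range ⊔ zpowers j ∧
      g * q (e 81) * g⁻¹ ∉ zpowers (q (e 81))) : ∃ φ, HA φ m := by
  obtain ⟨φ, f1, f2, f3, f5, ec, ed⟩ := h.phi
  rw [(bd! : (e 162 : Hs) = (e 81)⁻¹), map_inv] at f1
  have mz := ex_fix h.em (v := e 81) bd!
  have gQ : ∀ M : Subgroup G, q (e 1) ∈ M → q (e 3) ∈ M → ∀ k ∈ Q2, φ k ∈ M := fun M a b k hk =>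
    (bd! : ∀ k ∈ Q2, th wH [e 3, e 5] k = k) k hk ▸ th_mem wH (by simpa [f3, f5] using ⟨a, b⟩) k
  have gM : ∀ M : Subgroup G, (∀ x, ((∃ v ∈ (es [1, 3] : List Hs), x = q v) ∨
      ∃ γ ∈ (es [2, 4] : List Ga), x ^ 4 = 1 ∧ Ex q x γ) → x ∈ M) → ∀ k ∈ M2, φ k ∈ M :=
    fun M a k hk => by
      obtain ⟨r, -, s, -, b⟩ := (bd! : ∀ k ∈ M2, ∃ r ∈ [0, 1, 2, 3], ∃ s ∈ [0, 1],
        k * (e 27 ^ r * e 81 ^ s)⁻¹ ∈ Q2) k hk
      have := mul_mem (gQ M (a _ (.inl ⟨_, bd!, rfl⟩)) (a _ (.inl ⟨_, bd!, rfl⟩)) _ b) (mul_mem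
        (pow_mem (a _ (.inr ⟨_, bd!, (map_pow φ ..).symm.trans ((congrArg φ bd!).trans (map_one φ)),
          ec⟩)) r)
        (pow_mem (a _ (.inr ⟨_, bd!, (map_pow φ ..).symm.trans ((congrArg φ bd!).trans (map_one φ)),
          ed⟩)) s))
      simpa [mul_assoc] using this
  have p1 : ∀ v, ac (e 24) v = v → q v ∈ Q2.map φ := fun v hv => by
    obtain ⟨a, -, b, -, c, -, rfl⟩ := (bd! : ∀ v : Hs, ac (e 24) v = v → ∃ a ∈ [0, 1, 2],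
      ∃ b ∈ [0, 1, 2], ∃ c ∈ [0, 1, 2], v = e 1 ^ a * e 3 ^ b * (e 81)⁻¹ ^ c) v hv
    exact ⟨e 3 ^ a * e 5 ^ b * e 1 ^ c, mul_mem (mul_mem (pow_mem bd! _) (pow_mem bd! _))
      (pow_mem bd! _), by simp [f1, f3, f5]⟩
  have eQ : QH φ m = q.range := by
    have a : Q2.map φ ≤ q.range := map_le_iff_le_comap.2 (gQ q.range ⟨_, rfl⟩ ⟨_, rfl⟩)
    refine le_antisymm (sup_le a (cj_le_of_mem_normalizer a (h.nq m mz))) ?_
    rintro _ ⟨v, rfl⟩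
    obtain ⟨b, c, d⟩ := (bd! : ∀ v : Hs, ac (e 24) (e (Nat.mod v.v 9)) = e (Nat.mod v.v 9) ∧
      ac (e 24) (ac (e 1152) ((e (Nat.mod v.v 9))⁻¹ * v)) = ac (e 1152) ((e (Nat.mod v.v 9))⁻¹ * v) ∧
      v = e (Nat.mod v.v 9) * ac (e 1152) (ac (e 1152) ((e (Nat.mod v.v 9))⁻¹ * v))) v
    rw [d, map_mul, ← h.em]
    exact mul_mem (mem_sup_left (p1 _ b)) (mem_sup_right (conj_mem_cj m (p1 _ c)))
  have zp : zpowers (φ (e 1)) = zpowers (q (e 81)) := by rw [f1, zpowers_inv]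
  have cz : ∀ {g}, Commute g (φ (e 1)) ↔ Commute g (q (e 81)) := by
    rw [f1]; exact Commute.inv_right_iff
  have q8 : ∀ α ∈ (es [0, 1, 2, 3, 4, 5, 6, 7] : List Ga), ∃ l ∈ Q8, Ex q (φ l) α := fun α hα => by
    obtain ⟨r, -, s, -, rfl⟩ := (bd! : ∀ α ∈ (es [0, 1, 2, 3, 4, 5, 6, 7] : List Ga),
      ∃ r ∈ [0, 1, 2, 3], ∃ s ∈ [0, 1], α = e 2 ^ r * e 4 ^ s) α hα
    exact ⟨e 27 ^ r * e 81 ^ s, mul_mem (pow_mem bd! _) (pow_mem bd! _), by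
      simpa using (ex_pow ec r).mul (ex_pow ed s)⟩
  refine ⟨φ, inj2 (by rw [f1, ← map_inv, ← map_one q]; exact h.inj.ne bd!), h.m2, cz.2 mz,
    f2 ▸ h.mj, fun k hk l hl => mem_cent.1 (gM _ (fun x hx => mem_cent.2 ?_) k hk),
    fun g a b => ?_, fun g a => eQ ▸ h.nq g (cz.1 a),
    fun g a => zp ▸ h.cq g fun v => a _ (eQ.ge ⟨v, rfl⟩), by rwa [eQ, f2], ?_, ?_⟩
  · have := gM ((centralizer {x}).comap (MulAut.conj m).toMonoidHom)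
      (fun y hy => mem_cent.2 (h.cmT hx hy).symm) l hl
    exact (mem_cent.1 this).symm
  · have e1 : φ (e 189) = φ (e 27) * φ (e 27) := (congrArg φ bd!).trans (map_mul ..)
    have e2 : Ex q (m * φ (e 189) * m⁻¹) (e 24) :=
      e1 ▸ (bd! : (e 1152 * (e 2 * e 2) * (e 1152)⁻¹ : Ga) = e 24) ▸
        (h.em.mul (ec.mul ec)).mul h.em.inv
    obtain ⟨v, δ, c, d, r, s⟩ := h.cs g _ (cz.1 a) (X32.conj_sq (X32.Setup.sq bd!)) e2 b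
    obtain ⟨k, -, hk⟩ := p1 v (h.inj ((e2 v).symm.trans (conj_of_comm c.symm)))
    obtain ⟨i, -, α, hα, β, hβ, rfl⟩ := (bd! : ∀ δ : Ga, Commute δ (e 1) → ac δ (e 81) = e 81 →
      (δ * e 1152 * δ⁻¹ * (e 1152)⁻¹) ^ 4 = 1 → ∃ i ∈ [0, 1, 2],
        ∃ α ∈ (es [0, 1, 2, 3, 4, 5, 6, 7] : List Ga), ∃ β ∈ (es [0, 1, 2, 3, 4, 5, 6, 7] : List Ga),
          δ = e 200 ^ i * α * (e 1152 * β * (e 1152)⁻¹)) δ r
      (h.inj ((d _).symm.trans (conj_of_comm ((qz q v).mul_left (cz.1 a))))) s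
    obtain ⟨l, -, hl⟩ := q8 α hα
    obtain ⟨l', m', hl'⟩ := q8 β hβ
    obtain ⟨n, hn⟩ := zp.ge (h.CQ d (((ex_pow h.ej i).mul hl).mul ((h.em.mul hl').mul h.em.inv)))
    refine ⟨k⁻¹ * e 1 ^ n * e 135 ^ i * l, l', m', ?_⟩
    simp only at hn
    simp only [map_mul, map_inv, map_zpow, map_pow, hn, hk, f2]
    group
  · obtain ⟨g, a, b⟩ := nwc
    refine ⟨g, ?_, ?_⟩
    · rw [eQ, f2, f1, Loc3.Pr.conj_inv']; exact inv_mem a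
    · rwa [zp, f1, Loc3.Pr.conj_inv', inv_mem_iff]
  · obtain ⟨w, a, b⟩ := h.inv
    exact ⟨w, cz.2 a, by rwa [eQ, f2]⟩

omit h in
theorem map {C : Subgroup G} {q : Hs →* C} {m j : C} (h : HB q m j)
    (hC : ∀ g, Commute g (q (e 81) : G) → g ∈ C) : HB (C.subtype.comp q) m j := by
  have ex : ∀ {g : C} {γ}, Ex (C.subtype.comp q) g γ ↔ Ex q g γ := fun {g γ} =>
    ⟨fun a v => Subtype.ext (a v), fun a v => congrArg Subtype.val (a v)⟩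
  refine ⟨(subtype_injective C).comp h.inj, fun g a => ?_, fun g a => ?_, ex.2 h.em, ex.2 h.ej,
    congrArg Subtype.val h.m2, congrArg Subtype.val h.j3, h.mj.map C.subtype, fun γ hγ => ?_,
    fun g s a b c d => ?_, ?_⟩
  · obtain ⟨i, hi⟩ := h.cq ⟨g, hC g (a _)⟩ fun v => Subtype.ext (a v)
    exact ⟨i, congrArg Subtype.val hi⟩
  · rw [MonoidHom.range_comp]
    exact le_normalizer_map _ ⟨⟨g, hC g a⟩, h.nq _ (Subtype.ext a), rfl⟩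
  · obtain ⟨k, a, b⟩ := h.l4 γ hγ
    exact ⟨k, congrArg Subtype.val a, ex.2 b⟩
  · obtain ⟨v, δ, p, r, u⟩ := h.cs ⟨g, hC g a⟩ ⟨s, hC s (ex_fix c bd!)⟩ (Subtype.ext a)
      (Subtype.ext b) (ex.1 c) (Subtype.ext d)
    exact ⟨v, δ, p.map C.subtype, ex.2 r, u⟩
  · obtain ⟨w, a, v, b⟩ := h.inv
    exact ⟨w, a.map C.subtype, v, congrArg Subtype.val b⟩

end HB

end Cfsg.Agent.Co2L
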