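import Cfsg.Agent.Co2L.HD
import Cfsg.Agent.Co2L.HA3
import Cfsg.Agent.PS4.Id2
import Cfsg.Agent.Loc3.McH
import Cfsg.Statements.S3336

/-!
The shape of `C = C(Z)` in S3336.
-/

set_option autoImplicit false

namespace Cfsg.Agent.Co2L

open Subgroup Cfsg Cfsg.Agent.X32.TG Cfsg.Agent.Loc3 Cfsg.Agent.F4L Cfsg.Agent.PLocal.Amb
  Cfsg.Agent.Grp.ES
open Cfsg.Agent.PS4 (K2)
open scoped Cfsg.Agent.Loc3.Pr

theorem exists_HA {G : Type*} [Group G] [Finite G]
    (S : Sylow 3 G) (Z : Subgroup G) (hZ : Z = (S : Subgroup G) ⊓ Subgroup.centralizer ((S : Subgroup G) : Set G))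
    (C : Subgroup G) (hCZ : C = Subgroup.centralizer (Z : Set G))
    (hQ : Cfsg.IsExtraspecial 3 (Cfsg.pCore 3 C)) (hQcard : Nat.card (Cfsg.pCore 3 C) = 3 ^ 5)
    (hR : Cfsg.IsExtraspecial 2 (Cfsg.pCore 2 (C ⧸ Cfsg.pCore 3 C)))
    (hRcard : Nat.card (Cfsg.pCore 2 (C ⧸ Cfsg.pCore 3 C)) = 2 ^ 5)
    (e : (C ⧸ Cfsg.pCore 3 C) ⧸ Cfsg.pCore 2 (C ⧸ Cfsg.pCore 3 C) ≃* alternatingGroup (Fin 5))
    (hnwc : ¬ Cfsg.IsWeaklyClosed Z S) :
    ∃ (φ : K2 →* G) (m : G), HA φ m := by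
  have := Fact.mk Nat.prime_three
  have := Fact.mk Nat.prime_two
  obtain ⟨z, hz, -, -⟩ := isES_of_isExtraspecial hQ
  obtain ⟨τ, hτ, -, -⟩ := isES_of_isExtraspecial hR
  have SC : (S : Subgroup G) ≤ C := hCZ ▸ le_centralizer_iff.1 (hZ ▸ inf_le_right)
  have ZS : Z ≤ S := hZ ▸ inf_le_left
  have hS := isSyl_of_le S SC
  have QS : pCoreOf 3 C ≤ S := hS.pCoreOf_le
  have cQ : Nat.card (pCoreOf 3 C) = 243 := (card_subtype _ _).trans hQcard
  have ZQ : Z ≤ pCoreOf 3 C := le_pCoreOf (hS.pgrp.to_le ZS) (ZS.trans SC)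
    (hCZ ▸ centralizer_le_normalizer' _)
  have eZ : Z = zpowers (z : G) := by
    have a : Z ≤ zpowers (z : G) := fun x hx => by
      obtain ⟨y, hy, rfl⟩ := ZQ hx
      obtain ⟨i, k⟩ := hz.center y hy fun b _ => Subtype.ext (hCZ.le b.2 _ hx)
      exact ⟨i, congrArg Subtype.val k⟩
    have b : Nat.card (zpowers (z : G)) = 3 := by rw [Nat.card_zpowers, orderOf_coe, hz.ord]
    refine eq_of_le_of_card_ge a (b.trans (((Nat.dvd_prime Nat.prime_three).1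
      (b ▸ card_dvd_of_le a)).resolve_left fun k => ?_).symm).le
    exact inf_centralizer_ne_bot hS.pgrp hS.pgrp le_normalizer (fun k => by
      rw [le_bot_iff.1 (QS.trans k.le)] at cQ; simp at cQ) (hZ ▸ card_eq_one.1 k)
  have mC : ∀ g, g ∈ C ↔ Commute g (z : G) := fun g => by
    rw [← mem_cent, ← centralizer_zpowers, ← eZ, ← hCZ]
  have key : ∀ g ∈ C, (∃ k, g ^ 3 ^ k = 1) → g ∉ pCoreOf 3 C →
      ∃ c ∈ C, cj(c, pCoreOf 3 C ⊔ zpowers g) = S := fun g hg g3 gQ => by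
    have p : IsPGroup 3 ↥(pCoreOf 3 C ⊔ zpowers g) := sup_comm (zpowers g) _ ▸
      isPGroup_sup (isPGroup_zpowers g3) (isPGroup_pCoreOf 3 C)
        ((zpowers_le.2 hg).trans (le_normalizer_pCoreOf 3 C))
    obtain ⟨c, hc, le⟩ := hS.exists_cj_le p (sup_le (pCoreOf_le 3 C) (zpowers_le.2 hg))
    refine ⟨c, hc, eq_of_le_of_card_ge le ?_⟩
    obtain ⟨a, ha⟩ := IsPGroup.iff_card.1 hS.pgrp
    obtain ⟨b, hb⟩ := IsPGroup.iff_card.1 p
    have d := card_dvd_of_le SC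
    rw [card_eq_card_quotient_mul_card_subgroup (pCore 3 C),
      card_eq_card_quotient_mul_card_subgroup (pCore 2 (C ⧸ pCore 3 C)), Nat.card_congr e.toEquiv,
      hQcard, hRcard, nat_card_alternatingGroup, ha] at d
    have f : 3 ^ 5 < 3 ^ b := by
      refine lt_of_not_ge fun k => gQ ?_
      rw [eq_of_le_of_card_ge (le_sup_left (a := pCoreOf 3 C) (b := zpowers g)) (by rwa [hb, cQ])]
      exact mem_sup_right (mem_zpowers g)
    rw [card_cj, ha, hb]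
    refine Nat.pow_le_pow_right (by norm_num) (le_trans (b := 6) (not_lt.1 fun k => ?_)
      ((Nat.pow_lt_pow_iff_right (by norm_num)).1 f))
    exact absurd ((pow_dvd_pow 3 (show 7 ≤ a from k)).trans d) (by simp [Nat.factorial])
  have k1 := QuotientGroup.ker_mk' (pCore 3 C)
  have k2 : (e.toMonoidHom.comp (QuotientGroup.mk' _)).ker = pCore 2 (C ⧸ pCore 3 C) := by
    ext x; simp
  obtain ⟨q, m, j, h, r, qz⟩ := St.exists_HB (π := QuotientGroup.mk' (pCore 3 C))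
    (ψ := e.toMonoidHom.comp (QuotientGroup.mk' _)) (z := z) (τ := τ)
    ⟨QuotientGroup.mk'_surjective _, e.surjective.comp (QuotientGroup.mk'_surjective _),
      k1.symm ▸ hz, k1.symm ▸ hQcard, fun g => Subtype.ext ((mC g).1 g.2), k2.symm ▸ hτ,
      k2.symm ▸ hRcard, fun g k g3 a => by
        rw [← MonoidHom.mem_ker, k1, ← mem_map_subtype]
        by_contra b
        obtain ⟨c, hc, d⟩ := key g g.2 ⟨k, congrArg Subtype.val g3⟩ b
        refine b ((conj_mem_cj_iff (g := c)).1 ?_)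
        rw [cj_of_mem_normalizer (le_normalizer_map_subtype _ hc)]
        refine ZQ (hZ ▸ ⟨d ▸ conj_mem_cj c (mem_sup_right (mem_zpowers _)), ?_⟩)
        rw [← d, centralizer_cj, centralizer_sup, centralizer_zpowers]
        refine conj_mem_cj c ⟨?_, mem_cent.2 (.refl _)⟩
        rintro _ ⟨x, hx, rfl⟩
        exact congrArg Subtype.val (a x (k1.symm ▸ hx)).symm.eq⟩
  have h' := h.map fun g a => (mC g).2 (qz ▸ a)
  have r' : (C.subtype.comp q).range = pCoreOf 3 C := by rw [MonoidHom.range_comp, r, k1]; rfl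
  obtain ⟨c, hc, d⟩ := key j j.2 ⟨1, h'.j3⟩ fun k => by
    obtain ⟨v, hv⟩ := r'.ge k
    exact absurd (Ex.inner h'.inj (hv ▸ h'.ej)) bd!
  have d' : pCoreOf 3 C ⊔ zpowers (j : G) = cj(c⁻¹, (S : Subgroup G)) := by rw [← d, cj_inv_cj]
  obtain ⟨φ, hφ⟩ := h'.ha (by
    rw [r', d', ← cj_top c⁻¹]; exact (isSyl_top S).cj _) (by
    rw [r', d', show (C.subtype.comp q) (X32.TG.e 81) = z from congrArg Subtype.val qz]
    by_contra! k
    refine hnwc ⟨ZS, fun g hg => cj_of_mem_normalizer (mem_normalizer_of_cj_le ?_)⟩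
    have := k (c⁻¹ * g) (by
      simpa [mul_assoc] using conj_mem_cj c⁻¹ (hg (conj_mem_cj g (eZ.ge (mem_zpowers _)))))
    rw [eZ, MonoidHom.map_zpowers, zpowers_le]
    obtain ⟨i, hi⟩ := this
    refine ⟨i, ?_⟩
    simp only at hi
    change (z : G) ^ i = g * z * g⁻¹
    rw [← conj_of_comm (((mC c).1 hc).zpow_right i), hi]; group)
  exact ⟨φ, m, hφ⟩

end Cfsg.Agent.Co2L
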