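import Cfsg.Agent.F4L.HS
import Cfsg.Agent.Loc3.McC

/-!
Groups of shape `3^(1+4).2^(1+4).A5`: the centraliser of the normal 3-subgroup.
-/

set_option autoImplicit false
set_option maxRecDepth 100000
set_option synthInstance.maxHeartbeats 400000
set_option synthInstance.maxSize 4000

namespace Cfsg.Agent.Co2L

open Subgroup Cfsg Cfsg.Agent.Loc3 Cfsg.Agent.F4L Cfsg.Agent.Grp.ES Cfsg.Agent.PLocal.Amb
open scoped commutatorElement

variable {X Y : Type*} [Group X] [Group Y]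

/-- two commuting involutory automorphisms of `3^(1+4)` fixing the centre -/
theorem inv_pair [Finite X] {z a b : X} {Q : Subgroup X} [Q.Normal] (h : IsES 3 z Q)
    (hQ : Nat.card Q = 243) (az : Commute a z) (bz : Commute b z)
    (a2 : ∀ x ∈ Q, Commute (a * a) x) (b2 : ∀ x ∈ Q, Commute (b * b) x)
    (ab : ∀ x ∈ Q, Commute ⁅a, b⁆ x) : ∃ c ∈ [a, b, a * b],
      (∀ x ∈ Q, Commute c x) ∨ ∀ x ∈ Q, c * x * c⁻¹ * x ∈ zpowers z := by
  by_contra! hc
  let ρ : X →* MulAut Q := MulAut.conjNormal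
  have k1 : ∀ c, (∀ x ∈ Q, Commute c x) ↔ ρ c = 1 := fun c =>
    ⟨fun k => MulEquiv.ext fun x => Subtype.ext (conj_of_comm (k x x.2)), fun k x hx =>
      comm_of_conj (congrArg Subtype.val (MulEquiv.congr_fun k ⟨x, hx⟩))⟩
  have α2 : ρ a * ρ a = 1 := by rw [← map_mul, ← k1]; exact a2
  have β2 : ρ b * ρ b = 1 := by rw [← map_mul, ← k1]; exact b2
  have αβ : Commute (ρ a) (ρ b) := by
    rw [← commutatorElement_eq_one_iff_commute, ← map_commutatorElement, ← k1]; exact ab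
  let B := closure ({ρ a, ρ b} : Set (MulAut Q))
  have B2 : ∀ γ ∈ B, γ * γ = 1 := fun γ hγ => by
    rcases (mem_four α2 β2 αβ).1 hγ with rfl | rfl | rfl | rfl
    exacts [one_mul 1, α2, β2, by rw [αβ.symm.mul_mul_mul_comm, α2, β2, one_mul]]
  let H := Q ⋊[B.subtype] B
  have : Finite H := Finite.of_equiv _ SemidirectProduct.equivProd.symm
  let i : Q →* H := SemidirectProduct.inl
  have ii : Function.Injective i := SemidirectProduct.inl_injective
  have h0 := h.subgroupOf_self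
  have h' := h0.map_of_injective i ii
  have act : ∀ (γ : B) (x : Q), (SemidirectProduct.inr γ : H) * i x * (SemidirectProduct.inr γ)⁻¹ =
      i (γ.1 x) := fun γ x => by
    rw [← map_inv]; exact (SemidirectProduct.inl_aut γ x).symm
  have nm : ∀ γ : B, ∀ x ∈ (⊤ : Subgroup Q).map i, (SemidirectProduct.inr γ : H) * x *
      (SemidirectProduct.inr γ)⁻¹ ∈ (⊤ : Subgroup Q).map i := by
    rintro γ _ ⟨x, -, rfl⟩; exact ⟨_, trivial, (act γ x).symm⟩
  have n1 : ∀ c ∈ [a, b, a * b], ∀ γ : B, γ = ρ c →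
      (SemidirectProduct.inr γ : H) ∉ (⊤ : Subgroup Q).map i := by
    rintro c m γ e ⟨x, -, k⟩
    obtain ⟨y, hy, k'⟩ := (hc c m).1
    have : γ = 1 := (congrArg SemidirectProduct.right k).symm
    exact k' ((k1 c).2 (by rw [← e, this]; rfl) y hy)
  have n2 : ∀ c ∈ [a, b, a * b], ∀ γ : B, γ = ρ c → ¬ ∀ x ∈ (⊤ : Subgroup Q).map i,
      (SemidirectProduct.inr γ : H) * x * (SemidirectProduct.inr γ)⁻¹ * x ∈
        zpowers (i ⟨z, h.mem⟩) := fun c m γ e k => by
    obtain ⟨y, hy, k'⟩ := (hc c m).2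
    obtain ⟨n, hn⟩ := k _ ⟨⟨y, hy⟩, trivial, rfl⟩
    simp only [act, ← map_mul, ← map_zpow, e] at hn
    exact k' ⟨n, congrArg Subtype.val (ii hn)⟩
  have cz : ∀ c, Commute c z → ∀ γ : B, γ = ρ c →
      Commute (SemidirectProduct.inr γ : H) (i ⟨z, h.mem⟩) := fun c k γ e =>
    comm_of_conj ((act γ _).trans (congrArg i (Subtype.ext (by rw [e]; exact conj_of_comm k))))
  have s2 : ∀ γ : B, (SemidirectProduct.inr γ : H) * SemidirectProduct.inr γ = 1 := fun γ => by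
    rw [← map_mul, show γ * γ = 1 from Subtype.ext (B2 _ γ.2), map_one]
  obtain ⟨q, r, e, -, k⟩ := frame (s := SemidirectProduct.inr (⟨ρ a, mem_l⟩ : B))
    (u := SemidirectProduct.inr (⟨ρ b, mem_r⟩ : B)) h'
    (by rw [card_map_of_injective ii, card_top, hQ]) (fun g hg => by
      obtain ⟨x, γ⟩ := g
      rw [SemidirectProduct.mk_eq_inl_mul_inr] at hg ⊢
      have e1 : ∀ y, γ.1 y = x⁻¹ * y * x := fun y => ii (by
        rw [← act, map_mul, map_mul, map_inv]
        conv_rhs => rw [← conj_of_comm (hg _ ⟨y, trivial, rfl⟩)]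
        simp [i, mul_assoc])
      have e2 : x * x ∈ zpowers (⟨z, h.mem⟩ : Q) := h0.center _ trivial fun y _ => by
        have := MulEquiv.congr_fun (B2 _ γ.2) y
        rw [MulAut.mul_apply, e1, e1, MulAut.one_apply] at this
        refine comm_of_conj ?_
        conv_lhs => rw [← this]
        group
      have e3 : x ∈ zpowers (⟨z, h.mem⟩ : Q) := by
        have := mul_mem (h0.pow_mem (a := x) trivial) (inv_mem e2)
        rwa [pow_succ', pow_two, mul_inv_cancel_right] at this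
      rw [show γ = 1 from Subtype.ext (MulEquiv.ext fun y => by
        rw [e1, mul_assoc, (h0.commute_of_mem trivial e3).eq]; simp), map_one, mul_one]
      exact ⟨x, trivial, rfl⟩) (s2 _) (s2 _)
    (Commute.map (f := SemidirectProduct.inr) (Subtype.ext αβ.eq)) (cz a az _ rfl) (cz b bz _ rfl)
    (nm _) (nm _) (n1 a (by simp) _ rfl) (n1 b (by simp) _ rfl)
    (by rw [← map_mul]; exact n1 (a * b) (by simp) _ (map_mul ρ a b).symm) (n2 a (by simp) _ rfl)
  rcases k with k | k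
  · exact n2 b (by simp) _ rfl (by rw [← r, ← e]; rintro _ ⟨v, rfl⟩; exact k.inverts v)
  · rw [← map_mul] at k
    exact n2 (a * b) (by simp) _ (map_mul ρ a b).symm
      (by rw [← r, ← e]; rintro _ ⟨v, rfl⟩; exact k.inverts v)

/-- the shape `3^(1+4).2^(1+4).A5` -/
structure St (π : X →* Y) (ψ : Y →* A5) (z : X) (τ : Y) : Prop where
  sπ : Function.Surjective π
  sψ : Function.Surjective ψ
  hz : IsES 3 z π.ker
  cQ : Nat.card π.ker = 243
  zc : ∀ g, Commute g z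
  hτ : IsES 2 τ ψ.ker
  cR : Nat.card ψ.ker = 32
  h3 : ∀ g k, g ^ 3 ^ k = 1 → (∀ x ∈ π.ker, Commute g x) → π g = 1

/-- a Sylow 2-subgroup -/
abbrev BB (ψ : Y →* A5) : Subgroup Y := (centralizer {a5}).comap ψ

theorem ker_le_BB {ψ : Y →* A5} {r : Y} (hr : r ∈ ψ.ker) : r ∈ BB ψ :=
  mem_cent.2 (by rw [show ψ r = 1 from hr]; exact Commute.one_left _)

namespace St
variable {π : X →* Y} {ψ : Y →* A5} {z : X} {τ : Y} (h : St π ψ z τ)
include h

theorem cZ (g : X) {w : X} (hw : w ∈ zpowers z) : Commute g w := by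
  obtain ⟨i, rfl⟩ := hw; exact (h.zc g).zpow_right i

theorem r4 {r : Y} (hr : r ∈ ψ.ker) : r ^ 4 = 1 := by
  rw [show 4 = 2 * 2 from rfl, pow_mul, h.hτ.pow_eq_one (h.hτ.pow_mem hr)]

theorem q9 {q : X} (hq : π q = 1) : q ^ 9 = 1 := by
  rw [show 9 = 3 * 3 from rfl, pow_mul, h.hz.pow_eq_one (h.hz.pow_mem hq)]

theorem q27 (q : X) (hq : π q = 1) : q ^ 27 = 1 := by
  rw [show 27 = 9 * 3 from rfl, pow_mul, h.q9 hq, one_pow]

theorem τ1 : τ ≠ 1 := h.hτ.z_ne_one

theorem τc (y : Y) : Commute y τ := by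
  refine comm_of_conj ((h.hτ.eq_one_or_eq (h.hτ.center _ (ψ.normal_ker.conj_mem _ h.hτ.mem y)
    fun b hb => ?_)).resolve_left (by simpa using h.τ1))
  simpa [mul_assoc] using
    Loc3.Commute.cj (h.hτ.central _ (ψ.normal_ker.conj_mem _ hb y⁻¹)).symm y

theorem b8 {y : Y} (hy : y ∈ BB ψ) : y ^ 2 ^ 3 = 1 := by
  rw [show 2 ^ 3 = 2 * 4 from rfl, pow_mul]
  exact h.r4 (by
    rw [MonoidHom.mem_ker, map_pow]
    exact (pd! : ∀ x : A5, Commute x a5 → x ^ 2 = 1) _ (mem_cent.1 hy))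

theorem cY : Nat.card Y = 1920 := by
  rw [← ψ.ker.card_mul_index, h.cR, index_ker, MonoidHom.range_eq_top.2 h.sψ, card_top,
    nat_card_alternatingGroup]
  simp; rfl

variable [Finite X]

theorem finY : Finite Y := Finite.of_surjective _ h.sπ

theorem sec : ∃ κ : Y → X, WH (BB ψ) ⊥ κ ∧ ∀ a ∈ BB ψ, π (κ a) = a := by
  have := Fact.mk Nat.prime_three
  have := h.finY
  let f := π.subgroupComap (BB ψ)
  obtain ⟨κ, hκ⟩ := PH.section (M := ⊤) (K := f.ker) (π := f)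
    ⟨⟨le_top, fun _ _ => map_mul .., fun _ => Iff.rfl⟩, fun x =>
      (π.subgroupComap_surjective_of_surjective _ h.sπ x).imp fun _ k => ⟨trivial, k⟩⟩
    (IsPGroup.coprime_card_of_ne 3 2 (by decide) f.ker (BB ψ) (isPGroup_iff.2 fun x hx => ⟨2,
      Subtype.ext (h.q9 (congrArg Subtype.val hx))⟩) (isPGroup_iff.2 fun x hx => ⟨3, h.b8 hx⟩))
  have e : ∀ a, π (κ a) = a := fun a => congrArg Subtype.val (hκ a).2
  obtain ⟨κ', a, b⟩ := WH.of_hom bot_le ((Subgroup.subtype _).comp κ) fun g =>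
    ⟨fun k => (e g).symm.trans ((congrArg π k).trans (map_one π)), fun k => by
      rw [show g = 1 from Subtype.ext k, map_one]⟩
  exact ⟨κ', a, fun c hc => (congrArg π (b ⟨c, hc⟩)).trans (e _)⟩

theorem memO {g : X} : π g ∈ 𝐂[π.ker].map π ↔ ∀ x ∈ π.ker, ⁅g, x⁆ ∈ zpowers z := by
  have := Fact.mk Nat.prime_three
  refine ⟨fun ⟨d, hd, e⟩ x hx => ?_, fun k => ?_⟩
  · have := h.hz.comm (g * d⁻¹) (by simp [MonoidHom.mem_ker, e]) x hx
    rwa [comm_mul_left (by rw [(Commute.inv_left (hd x hx).symm).commutator_eq]; simp),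
      (Commute.inv_left (hd x hx).symm).commutator_eq, one_mul] at this
  · obtain ⟨e, he, c⟩ := h.hz.exists_conj_eq (fun e => by
      have := h.cQ; rw [e, Nat.card_zpowers, h.hz.ord] at this; omega) k
    exact ⟨_, c, by rw [map_mul, map_inv, show π e = 1 from he, inv_one, one_mul]⟩

theorem two {g : X} (g2 : g ^ 2 ^ 3 = 1) (hg : π g ∈ 𝐂[π.ker].map π) :
    ∀ x ∈ π.ker, Commute g x := fun x hx => by
  have a := h.memO.1 hg x hx
  have b := comm_pow_left (h.cZ g a) (2 ^ 3)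
  rw [g2, commutatorElement_one_left] at b
  exact commutatorElement_eq_one_iff_commute.1 (eq_one_of_odd (K := zpowers z)
    (by rw [Nat.card_zpowers, h.hz.ord]; decide) a b.symm)

theorem invO {c : X} (hc : ∀ x ∈ π.ker, c * x * c⁻¹ * x ∈ zpowers z) (g : X) :
    π ⁅c, g⁆ ∈ 𝐂[π.ker].map π := by
  refine h.memO.2 fun x hx => ?_
  have a := hc _ (π.normal_ker.conj_mem _ hx (c⁻¹ * g⁻¹))
  rw [show ⁅⁅c, g⁆, x⁆ = c * x⁻¹ * c⁻¹ * x⁻¹ * (x * c * g * (c * (c⁻¹ * g⁻¹ * x * (c⁻¹ * g⁻¹)⁻¹) *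
    c⁻¹ * (c⁻¹ * g⁻¹ * x * (c⁻¹ * g⁻¹)⁻¹)) * (x * c * g)⁻¹) by
      simp only [commutatorElement_def]; group, conj_of_comm (h.cZ _ a)]
  exact mul_mem (hc _ (inv_mem hx)) a

theorem pair {a b : Y} (ha : a ∈ BB ψ) (hb : b ∈ BB ψ) (a2 : a * a ∈ 𝐂[π.ker].map π)
    (b2 : b * b ∈ 𝐂[π.ker].map π) (ab : ⁅a, b⁆ ∈ 𝐂[π.ker].map π) :
    ∃ c ∈ [a, b, a * b], ∀ y, ⁅c, y⁆ ∈ 𝐂[π.ker].map π := by
  obtain ⟨κ, w, e⟩ := h.sec
  have k : ∀ y ∈ BB ψ, y ∈ 𝐂[π.ker].map π → ∀ x ∈ π.ker, Commute (κ y) x := fun y hy m =>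
    h.two (by rw [← w.map_pow hy, h.b8 hy, w.map_one]) ((e y hy).symm ▸ m)
  obtain ⟨c, m, hc⟩ := inv_pair (a := κ a) (b := κ b) h.hz h.cQ (h.zc _) (h.zc _)
    (w.mul ha ha ▸ k _ (mul_mem ha ha) a2) (w.mul hb hb ▸ k _ (mul_mem hb hb) b2) (by
      have m := mul_mem (mul_mem ha hb) (inv_mem ha)
      have := k _ (mul_mem m (inv_mem hb)) ab
      rwa [w.mul m (inv_mem hb), w.map_conj ha hb, w.map_inv hb] at this)
  refine ⟨π c, ?_, fun y => ?_⟩
  · simp only [List.mem_cons, List.not_mem_nil, or_false] at m ⊢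
    rcases m with rfl | rfl | rfl <;> simp [e, ha, hb]
  obtain ⟨g, rfl⟩ := h.sπ y
  rw [← map_commutatorElement]
  rcases hc with hc | hc
  · have m : c ∈ 𝐂[π.ker] := fun x hx => (hc x hx).symm
    exact mem_map_of_mem _ (by
      simpa [commutatorElement_def, mul_assoc] using
        mul_mem m (normal_centralizer.conj_mem _ (inv_mem m) g))
  exact h.invO hc g

omit [Finite X] in
theorem O_le : 𝐂[π.ker].map π ≤ ψ.ker := by
  have n := (normal_centralizer.map π h.sπ : (𝐂[π.ker].map π).Normal).map ψ h.sψ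
  rw [← Subgroup.map_eq_bot_iff]
  refine n.eq_bot_or_eq_top.resolve_right fun e => ?_
  obtain ⟨_, ⟨d, hd, rfl⟩, k⟩ := e.ge (mem_top c5)
  have := h.h3 (d ^ 4) 3 (by
    rw [← pow_mul, show 4 * 3 ^ 3 = 3 * 4 * 9 from rfl, pow_mul]
    refine h.q9 ?_
    rw [map_pow, pow_mul]
    exact h.r4 (by rw [MonoidHom.mem_ker, map_pow, k]; exact pd!))
    fun x hx => (Commute.symm (hd x hx)).pow_left 4
  exact (pd! : c5 ^ 4 ≠ 1) (by rw [← k, ← map_pow, ← map_pow, this, map_one])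

theorem not_D {D : Subgroup Y} (n : D.Normal) {f : Y} (hf : f ∈ D) (f1 : ψ f ≠ 1)
    (hD : ∀ r ∈ D, ψ r = 1 → r ∈ 𝐂[π.ker].map π) : False := by
  have e := (n.map ψ h.sψ).eq_bot_or_eq_top.resolve_left fun e =>
    f1 (e.le (mem_map_of_mem ψ hf))
  obtain ⟨a, ha, ea⟩ := e.ge (mem_top a5)
  obtain ⟨b, hb, eb⟩ := e.ge (mem_top b5)
  obtain ⟨c, m, k⟩ := h.pair (a := a) (b := b) (mem_cent.2 (ea ▸ Commute.refl _))
    (mem_cent.2 (eb ▸ pd!)) (hD _ (mul_mem ha ha) (by rw [map_mul, ea]; exact pd!))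
    (hD _ (mul_mem hb hb) (by rw [map_mul, eb]; exact pd!))
    (hD _ (mul_mem (mul_mem (mul_mem ha hb) (inv_mem ha)) (inv_mem hb)) (by
      simp only [commutatorElement_def, map_mul, map_inv, ea, eb]; exact pd!))
  obtain ⟨y, ey⟩ := h.sψ c5
  have := h.O_le (k y)
  rw [MonoidHom.mem_ker, map_commutatorElement, commutatorElement_eq_one_iff_commute, ey] at this
  refine (pd! : ∀ x ∈ [a5, b5, a5 * b5], ¬ Commute x c5) _ ?_ this
  simp only [List.mem_cons, List.not_mem_nil, or_false] at m ⊢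
  rcases m with rfl | rfl | rfl <;> simp [ea, eb]

theorem cq (g : X) (hg : ∀ x ∈ π.ker, Commute g x) : g ∈ π.ker := by
  have := h.finY
  have := Fact.mk (by norm_num : Nat.Prime 5)
  by_contra g1
  have n : (𝐂[π.ker].map π).Normal := normal_centralizer.map π h.sπ
  have mg : π g ∈ 𝐂[π.ker].map π := mem_map_of_mem π fun x hx => (hg x hx).symm
  have τO : zpowers τ ≤ 𝐂[π.ker].map π := zpowers_le.2 (by
    by_cases k : π g ∈ zpowers τ
    · exact (h.hτ.eq_one_or_eq k).resolve_left g1 ▸ mg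
    · obtain ⟨b, -, e⟩ := h.hτ.exists_partner (h.O_le mg) k
      simpa [← e, commutatorElement_def, mul_assoc] using
        mul_mem mg (n.conj_mem _ (inv_mem mg) b))
  obtain ⟨f, f5⟩ := exists_prime_orderOf_dvd_card' (G := Y) 5 (by rw [h.cY]; norm_num)
  have f1 : ψ f ≠ 1 := fun k => by
    have := orderOf_dvd_of_pow_eq_one (h.r4 k); rw [f5] at this; omega
  have f5' : f ^ 5 = 1 := f5 ▸ pow_orderOf_eq_one f
  have d : ∀ n ≤ 32, n ∣ 32 → n % 5 = 2 → n = 2 ∨ n = 32 := by decide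
  have c2 : Nat.card (zpowers τ) = 2 := by rw [Nat.card_zpowers, h.hτ.ord]
  have tf : zpowers τ ≤ centralizer {f} := zpowers_le.2 (mem_cent.2 (h.τc f).symm)
  have m1 := card_mod (by norm_num) f5' fun x hx => ψ.normal_ker.conj_mem x hx f
  have d1 := h.cR ▸ card_dvd_of_le (inf_le_left : ψ.ker ⊓ centralizer {f} ≤ _)
  rcases d _ (Nat.le_of_dvd (by norm_num) d1) d1 (by rw [← m1, h.cR]) with e | e
  · have e1 := eq_of_le_of_card_ge (le_inf h.hτ.zpowers_le tf) (e.trans c2.symm).le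
    have m2 := card_mod (by norm_num) f5' fun x hx => n.conj_mem x hx f
    rw [le_antisymm ((inf_le_inf_right _ h.O_le).trans e1.ge) (le_inf τO tf), c2] at m2
    have d2 := h.cR ▸ card_dvd_of_le h.O_le
    rcases d _ (Nat.le_of_dvd (by norm_num) d2) d2 m2 with e2 | e2
    · have e3 := eq_of_le_of_card_ge τO (e2.trans c2.symm).le
      obtain ⟨a, ha, b, hb, ab⟩ := h.hτ.exists_pair fun k => by
        have := h.cR; rw [k, c2] at this; omega
      obtain ⟨c, m, k⟩ := h.pair (ker_le_BB ha) (ker_le_BB hb) (τO (pow_two a ▸ h.hτ.pow_mem ha))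
        (τO (pow_two b ▸ h.hτ.pow_mem hb)) (τO (ab ▸ mem_zpowers _))
      have k1 := e3.ge (k f)
      have k2 : c * f * c⁻¹ = f := by
        have c1 : Commute ⁅c, f⁆ f := by obtain ⟨i, hi⟩ := k1; exact hi ▸ (h.τc f).symm.zpow_left i
        have := c1.mul_pow 5
        rw [commutatorElement_def, inv_mul_cancel_right, conj_pow, f5', mul_one, mul_inv_cancel,
          mul_one, ← commutatorElement_def, show 5 = 2 * 2 + 1 from rfl, pow_succ, pow_mul,
          h.hτ.pow_eq_one k1, one_pow, one_mul] at this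
        exact mul_inv_eq_one.1 this.symm
      simp only [List.mem_cons, List.not_mem_nil, or_false] at m
      have k3 : ∀ c ∈ ψ.ker, c * f * c⁻¹ = f → c ∈ zpowers τ := fun c hc k =>
        e1.ge ⟨hc, mem_cent.2 (comm_of_conj k)⟩
      rcases m with rfl | rfl | rfl
      · exact h.hτ.not_mem_of_comm_eq hb ab (k3 _ ha k2)
      · exact h.hτ.not_mem_of_comm_eq ha (by rw [← commutatorElement_inv, ab, h.hτ.z_inv])
          (k3 _ hb k2)
      · exact h.hτ.not_mem_of_comm_eq hb (by rw [h.hτ.mul_left ha hb hb, ab]; simp)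
          (k3 _ (mul_mem ha hb) k2)
    · exact h.not_D (D := ⊤) inferInstance trivial f1 fun r _ k =>
        (eq_of_le_of_card_ge h.O_le (h.cR.trans e2.symm).le).ge k
  · have e1 := eq_of_le_of_card_ge (inf_le_left : ψ.ker ⊓ centralizer {f} ≤ _) (h.cR.trans e.symm).le
    exact h.not_D (D := 𝐂[ψ.ker]) inferInstance (fun x hx => mem_cent.1 (e1.ge hx).2) f1
      fun r hr k => τO (h.hτ.center r k fun b hb => (hr b hb).symm)

theorem cz (g : X) (hg : ∀ x ∈ π.ker, Commute g x) : g ∈ zpowers z :=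
  h.hz.center g (h.cq g hg) hg

theorem inv_c {c : X} (hc : ∀ x ∈ π.ker, c * x * c⁻¹ * x ∈ zpowers z) (y : Y) :
    Commute (π c) y := by
  obtain ⟨g, rfl⟩ := h.sπ y
  obtain ⟨d, hd, e⟩ := h.invO hc g
  rw [← commutatorElement_eq_one_iff_commute, ← map_commutatorElement, ← e]
  exact h.cq d fun x hx => (hd x hx).symm

end St

end Cfsg.Agent.Co2L
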