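import Cfsg.Agent.Co2L.HA1
import Cfsg.Agent.Grp.FourOdd
import Cfsg.Agent.PS4.Id2

/-!
Groups of shape `3^(1+4).2^(1+4).A5`: coordinates.
-/

set_option autoImplicit false
set_option maxRecDepth 100000
set_option synthInstance.maxHeartbeats 400000
set_option synthInstance.maxSize 4000

namespace Cfsg.Agent.Co2L

open Subgroup Cfsg Cfsg.Agent.Comp Cfsg.Agent.X32.TG Cfsg.Agent.Loc3 Cfsg.Agent.F4L
  Cfsg.Agent.Grp.ES Cfsg.Agent.PLocal.Amb
open Cfsg.Agent.X32 (TG Tab)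
open scoped commutatorElement Cfsg.Agent.Loc3.Pr

variable {X Y : Type*} [Group X] [Group Y]

theorem ex_one (q : Hs →* X) : Ex q 1 1 := fun v => by simp [ac_one]

theorem ex_pow {q : Hs →* X} {g : X} {γ : Ga} (a : Ex q g γ) (n : ℕ) : Ex q (g ^ n) (γ ^ n) := by
  induction n with
  | zero => simpa using ex_one q
  | succ n ih => rw [pow_succ, pow_succ]; exact ih.mul a

theorem ex_chg {q : Hs →* X} {g : X} {γ : Ga} (a : Ex q g γ) (δ : Ga) :
    Ex (q.comp (acH δ)) g (δ⁻¹ * γ * δ) := fun v =>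
  (a (ac δ v)).trans (congrArg q (by
    change _ = ac δ _
    rw [← ac_mul, ← ac_mul]; simp [mul_assoc]))

theorem range_chg (q : Hs →* X) (δ : Ga) : (q.comp (acH δ)).range = q.range := by
  refine le_antisymm (by rintro _ ⟨v, rfl⟩; exact ⟨_, rfl⟩) ?_
  rintro _ ⟨v, rfl⟩
  exact ⟨ac δ⁻¹ v, congrArg q (by
    change ac δ _ = _
    rw [← ac_mul, mul_inv_cancel, ac_one])⟩

theorem four_of_sq {g : X} (h : g * g = 1) : g ^ 4 = 1 := by
  rw [show 4 = 2 * 2 from rfl, pow_mul, pow_two g, h, one_pow]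

theorem eq_of_four {z g k : X} (z3 : z ^ 3 = 1) (kz : Commute k z) (m : g * k⁻¹ ∈ zpowers z)
    (g4 : g ^ 4 = 1) (k4 : k ^ 4 = 1) : g = k := by
  obtain ⟨i, m⟩ := m
  have := (kz.zpow_right i).symm.mul_pow 4
  simp only at m
  rw [k4, mul_one, pow_succ (z ^ i), ← zpow_natCast (z ^ i), ← zpow_mul, mul_comm i, zpow_mul,
    zpow_natCast z, z3, one_zpow, one_mul, m, inv_mul_cancel_right, g4] at this
  exact mul_inv_eq_one.1 this.symm

/-- the structure of the centraliser of `q (e 81)` -/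
structure HB (q : Hs →* X) (m j : X) : Prop where
  inj : Function.Injective q
  cq : ∀ g, (∀ v, Commute g (q v)) → g ∈ zpowers (q (e 81))
  nq : ∀ g, Commute g (q (e 81)) → g ∈ 𝐍[q.range]
  em : Ex q m (e 1152)
  ej : Ex q j (e 200)
  m2 : m * m = 1
  j3 : j ^ 3 = 1
  mj : Commute m j
  l4 : ∀ γ, QQ γ → ∃ k, k ^ 4 = 1 ∧ Ex q k γ
  cs : ∀ g s, Commute g (q (e 81)) → s * s = 1 → Ex q s (e 24) → Commute g s → ∃ v δ,
    Commute (q v) s ∧ Ex q (q v * g) δ ∧ Commute δ (e 1) ∧ (δ * e 1152 * δ⁻¹ * (e 1152)⁻¹) ^ 4 = 1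
  inv : ∃ w, Commute w (q (e 81)) ∧ w * j * w⁻¹ * j ∈ q.range

/-- a frame -/
structure Fm (π : X →* Y) (ψ : Y →* A5) (z : X) (τ : Y) (q : Hs →* X) (s t : X) : Prop
    extends St π ψ z τ where
  rg : q.range = π.ker
  qz : q (e 81) = z
  s2 : s * s = 1
  t2 : t * t = 1
  st : Commute s t
  πt : π t = τ
  sR : π s ∈ ψ.ker
  es : Ex q s (e 1)
  et : Ex q t (e 25)

variable {π : X →* Y} {ψ : Y →* A5} {z s t : X} {τ : Y} {q : Hs →* X} [Finite X]

theorem St.frame (h : St π ψ z τ) : ∃ q s t, Fm π ψ z τ q s t := by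
  obtain ⟨κ, w, e⟩ := h.sec
  obtain ⟨a, ha, b, hb, ab, ⟨a2, -⟩ | ⟨-, -, k⟩⟩ := h.hτ.exists_good_pair fun k => by
    have := h.cR; rw [k, Nat.card_zpowers, h.hτ.ord] at this; omega
  swap
  · have := h.hτ.card_eq_mul ha hb ab
    rw [k, Nat.card_zpowers, h.hτ.ord, h.cR] at this; omega
  have ma := ker_le_BB ha
  have mτ := ker_le_BB h.hτ.mem
  have na := h.hτ.not_mem_of_comm_eq hb ab
  have nc : ¬ Commute a b := fun c => h.τ1 (ab ▸ c.commutator_eq)
  have s2 : κ a * κ a = 1 := by rw [← w.mul ma ma, ← pow_two, a2, w.map_one]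
  have t2 : κ τ * κ τ = 1 := by rw [← w.mul mτ mτ, h.hτ.z_mul_z, w.map_one]
  have st : Commute (κ a) (κ τ) := by
    change _ = _
    rw [← w.mul ma mτ, ← w.mul mτ ma, h.τc]
  obtain ⟨q, r, qz, hs, ht⟩ := F4L.frame h.hz h.cQ h.cq s2 t2 st (h.zc _) (h.zc _)
    (fun x hx => π.normal_ker.conj_mem x hx _) (fun x hx => π.normal_ker.conj_mem x hx _)
    (fun k => na (by rw [← e a ma, show π (κ a) = 1 from k]; exact one_mem _))
    (fun k => h.τ1 ((e τ mτ).symm.trans k))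
    (fun k => na (by
      rw [MonoidHom.mem_ker, map_mul, e a ma, e τ mτ] at k
      rw [eq_inv_of_mul_eq_one_left k]; exact inv_mem (mem_zpowers _)))
    fun k => nc (e a ma ▸ h.inv_c k b)
  refine ⟨q, _, _, h, r, qz, s2, t2, st, e τ mτ, (e a ma).symm ▸ ha, hs, ht.resolve_right fun k => ?_⟩
  have := h.inv_c (c := κ a * κ τ) (by rw [← r, ← qz]; rintro _ ⟨v, rfl⟩; exact k.inverts v) b
  rw [map_mul, e a ma, e τ mτ] at this
  exact nc (by simpa using this.mul_left (h.τc b).symm.inv_left)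

namespace Fm
variable (h : Fm π ψ z τ q s t) {g k : X} {γ δ : Ga}
include h

omit [Finite X] in
theorem inj : Function.Injective q :=
  have := Fact.mk Nat.prime_three
  inj_heis (h.qz ▸ h.hz.z_ne_one)

omit [Finite X] in
theorem chg (c : ac δ (e 81) = e 81) (d : Commute δ (e 1)) :
    Fm π ψ z τ (q.comp (acH δ)) s t :=
  { h with
    rg := (range_chg q δ).trans h.rg
    qz := (congrArg q c).trans h.qz
    es := by simpa [mul_assoc, ← d.eq] using ex_chg h.es δ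
    et := by simpa [mul_assoc, ((bd! : ∀ δ : Ga, Commute (e 25) δ) δ).eq] using ex_chg h.et δ }

omit [Finite X] in
theorem eqv (a : Ex q g γ) (b : Ex q k δ) (c : π g = π k) : γ = δ := by
  obtain ⟨v, hv⟩ := h.rg.ge (show g * k⁻¹ ∈ π.ker by simp [MonoidHom.mem_ker, c])
  exact mul_inv_eq_one.1 (Ex.inner h.inj (hv ▸ a.mul b.inv))

omit [Finite X] in
theorem exz (a : Ex q g γ) : ac γ (e 81) = e 81 :=
  h.inj ((a _).symm.trans (conj_of_comm (h.qz ▸ h.zc g)))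

omit [Finite X] in
theorem fin (g2 : g * g = 1) (k2 : k * k = 1) (a : Commute g t) (b : Commute k t) (c : π g = π k) :
    g = k :=
  h.et.fin h.inj g2 k2 a b (h.qz ▸ h.zc k) (h.rg.ge (by simp [MonoidHom.mem_ker, c]))

omit [Finite X] in
theorem lc (y : Y) : ∃ g, π g = y ∧ Commute g t := by
  obtain ⟨g, rfl⟩ := h.sπ y
  exact PS4.lift_cent π h.q27 h.t2 (h.πt ▸ h.τc _)

omit [Finite X] in
theorem ex (a : Commute g t) (b : g * s * g⁻¹ = s ∨ g * s * g⁻¹ = s * t) : ∃ γ, Ex q g γ :=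
  h.es.exists_of h.inj h.et (fun v => h.rg.ge (π.normal_ker.conj_mem _ (h.rg.le ⟨v, rfl⟩) g)) a b

omit [Finite X] in
theorem ex0 (a : Commute g t) (b : Commute (π g) (π s)) :
    ∃ γ, Ex q g γ ∧ Commute γ (e 1) := by
  have c : g * s * g⁻¹ = s := h.fin (X32.conj_sq h.s2) h.s2
    ((a.mul_left h.st).mul_left a.inv_left) h.st (by simp [b.eq])
  obtain ⟨γ, d⟩ := h.ex a (.inl c)
  exact ⟨γ, d, (d.mul h.es).uniq h.inj ((comm_of_conj c).eq ▸ h.es.mul d)⟩

theorem CQ (a : Ex q g γ) (b : Ex q k γ) : g * k⁻¹ ∈ zpowers z := h.cz _ fun x hx => by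
  obtain ⟨v, rfl⟩ := h.rg.ge hx
  exact comm_of_conj (by rw [a.mul b.inv, mul_inv_cancel, ac_one])

theorem eqπ (a : Ex q g γ) (b : Ex q k γ) : π g = π k := by
  have := h.hz.zpowers_le (h.CQ a b)
  rwa [MonoidHom.mem_ker, map_mul, map_inv, mul_inv_eq_one] at this

omit [Finite X] in
theorem s1 : π s ∉ zpowers τ := fun k => by
  rcases h.hτ.eq_one_or_eq k with k | k
  · exact absurd (h.eqv h.es (ex_one q) (k.trans (map_one π).symm)) bd!
  · exact absurd (h.eqv h.es h.et (k.trans h.πt.symm)) bd!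

omit [Finite X] in
theorem cjR {r : Y} (hr : r ∈ ψ.ker) : r * π s * r⁻¹ = π s ∨ r * π s * r⁻¹ = π s * τ :=
  (h.hτ.eq_one_or_eq (h.hτ.comm _ hr _ h.sR)).imp mul_inv_eq_one.1 fun k => by
    rw [h.τc, ← k, commutatorElement_def, inv_mul_cancel_right]

omit [Finite X] in
theorem c16 : Nat.card ↥(ψ.ker ⊓ centralizer {π s}) = 16 := by
  have := Grp.FourOdd.ncard_conj ψ.ker (π s)
  obtain ⟨b, hb, c⟩ := h.hτ.exists_partner h.sR h.s1
  rw [show {y | ∃ k ∈ ψ.ker, k * π s * k⁻¹ = y} = {π s, π s * τ} from Set.ext fun y =>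
    ⟨by rintro ⟨k, hk, rfl⟩; exact h.cjR hk, by
      rintro (rfl | rfl)
      · exact ⟨1, one_mem _, by simp⟩
      · exact ⟨b, hb, (h.cjR hb).resolve_left fun k =>
          h.τ1 (c ▸ (comm_of_conj k).symm.commutator_eq)⟩⟩,
    Set.ncard_pair (by simpa using h.τ1), h.cR] at this
  omega

theorem orb (y : Y) (c : Commute (y * π s * y⁻¹) (π s)) :
    y * π s * y⁻¹ = π s ∨ y * π s * y⁻¹ = π s * τ := by
  obtain ⟨g, rfl, a⟩ := h.lc y
  obtain ⟨γ, b, d⟩ := h.ex0 ((a.mul_left h.st).mul_left a.inv_left) (by simpa using c)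
  have e1 : π (g * s * g⁻¹) = π g * π s * (π g)⁻¹ := by simp
  rcases (bd! : ∀ γ : Ga, γ * γ = 1 → Commute γ (e 1) → ac γ (e 81) = e 81 →
      γ = 1 ∨ γ = e 1 ∨ γ = e 25 ∨ γ = e 1 * e 25) γ
    ((b.mul b).uniq h.inj (X32.conj_sq h.s2 ▸ ex_one q)) d (h.exz b) with rfl | rfl | rfl | rfl
  · exact absurd (by simpa using e1.symm.trans (h.eqπ b (ex_one q)) : π s = 1)
      fun k => h.s1 (k ▸ one_mem _)
  · exact .inl (e1.symm.trans (h.eqπ b h.es))
  · have := e1.symm.trans ((h.eqπ b h.et).trans h.πt)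
    rw [← conj_of_comm (h.τc (π g)), mul_left_inj, mul_right_inj] at this
    exact absurd (this ▸ mem_zpowers _) h.s1
  · exact .inr (e1.symm.trans ((h.eqπ b (h.es.mul h.et)).trans (by rw [map_mul, h.πt])))

theorem big : 1920 ≤ 18 * Nat.card (centralizer {π s}) := by
  have := h.finY
  have := Grp.FourOdd.ncard_conj ⊤ (π s)
  rw [top_inf_eq, card_top, h.cY] at this
  rw [← this]
  refine Nat.mul_le_mul_right _ ((Set.ncard_le_ncard (t := {π s, π s * τ} ∪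
    ((ψ.ker : Set Y) \ (ψ.ker ⊓ centralizer {π s} : Subgroup Y))) ?_).trans
    ((Set.ncard_union_le _ _).trans ?_))
  · rintro _ ⟨y, -, rfl⟩
    by_cases c : Commute (y * π s * y⁻¹) (π s)
    · exact .inl (h.orb y c)
    · exact .inr ⟨ψ.normal_ker.conj_mem _ h.sR y, fun k => c (mem_cent.1 k.2)⟩
  · rw [Set.ncard_sdiff (by exact inf_le_left (a := ψ.ker)), Set.ncard_pair (by simpa using h.τ1),
      ← Nat.card_coe_set_eq, ← Nat.card_coe_set_eq]
    have := h.cR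
    have := h.c16
    simp only [SetLike.coe_sort_coe]
    omega

theorem c192 : Nat.card (centralizer {π s}) = 192 ∧ ∀ γ, QQ γ → ∃ k, k ^ 4 = 1 ∧ Ex q k γ := by
  have := h.finY
  have := Fact.mk Nat.prime_two
  have : ∀ y : centralizer {π s}, ∃ γ g, π g = y ∧ Ex q g γ ∧ Commute γ (e 1) := fun y => by
    obtain ⟨g, a, b⟩ := h.lc y
    obtain ⟨γ, c⟩ := h.ex0 b (a ▸ mem_cent.1 y.2)
    exact ⟨γ, g, a, c⟩
  choose f l a b c using this
  let F : centralizer {π s} →* Ga := MonoidHom.mk' f fun x y =>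
    h.eqv (b _) ((b x).mul (b y)) (by simp [a])
  have i : Function.Injective F := fun x y k =>
    Subtype.ext (by rw [← a, ← a]; exact h.eqπ (b x) ((show f x = f y from k) ▸ b y))
  have d1 := card_dvd_of_injective F i
  have d2 := h.cY ▸ card_subgroup_dvd_card (centralizer {π s})
  rw [TG.card, show TGa.n = 2304 from rfl] at d1
  have key : ∀ n, 2 ^ n ∣ Nat.card (centralizer {π s}) → ∃ (K : Subgroup (centralizer {π s}))
      (F' : K → {γ : Ga // QQ γ}), Nat.card K = 2 ^ n ∧ Function.Injective F' ∧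
      ∀ x, (F' x).1 = F x := fun n hn => by
    obtain ⟨K, hK⟩ := Sylow.exists_subgroup_card_pow_prime 2 hn
    refine ⟨K, fun x => ⟨F x, ?_⟩, hK, fun x y k => Subtype.ext (i (congrArg Subtype.val k)),
      fun _ => rfl⟩
    obtain ⟨p, r⟩ := (bd! : ∀ γ : Ga, Commute γ (e 1) → ac γ (e 81) = e 81 →
      (γ ^ 4) ^ 3 = 1 ∧ (γ ^ 4 = 1 → QQ γ)) _ (c x) (h.exz (b x))
    refine r ((pow_eq_one_iff_of_coprime (Nat.Coprime.pow_left n (by norm_num : Nat.Coprime 2 3))).1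
      ⟨?_, p⟩)
    rw [← pow_mul, mul_comm, pow_mul]
    change (F x ^ _) ^ _ = 1
    rw [← map_pow, ← hK, ← coe_pow, pow_card_eq_one', coe_one, map_one, one_pow]
  have c64 : Nat.card {γ : Ga // QQ γ} = 64 := by rw [card_eq]; decide +kernel
  have n7 : ¬ 2 ^ 7 ∣ Nat.card (centralizer {π s}) := fun k => by
    obtain ⟨K, F', p, r, -⟩ := key 7 k
    have := Nat.card_le_card_of_injective F' r
    omega
  have e1 : Nat.card (centralizer {π s}) = 192 := by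
    have := h.big
    obtain ⟨n, hn⟩ : Nat.card (centralizer {π s}) ∣ 384 := Nat.dvd_gcd d1 d2
    generalize Nat.card (centralizer {π s}) = N at *
    have : n < 4 := by nlinarith
    interval_cases n <;> omega
  refine ⟨e1, fun γ hγ => ?_⟩
  obtain ⟨K, F', p, r, u⟩ := key 6 (by rw [e1]; norm_num)
  obtain ⟨x, hx⟩ := (r.bijective_of_nat_card_le (by omega)).2 ⟨γ, hγ⟩
  have e2 : f x = γ := (u x).symm.trans (congrArg Subtype.val hx)
  have e3 := e2 ▸ b x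
  obtain ⟨p, r⟩ := (bd! : ∀ γ : Ga, QQ γ → γ ^ 4 = 1 ∧ γ ^ 9 = γ) γ hγ
  refine ⟨l x ^ 9, ?_, r ▸ ex_pow e3 9⟩
  have := h.hz.pow_eq_one (h.CQ (ex_pow e3 4) (p ▸ ex_one q))
  rw [inv_one, mul_one] at this
  rw [← pow_mul, show 9 * 4 = 4 * 3 * 3 from rfl, pow_mul, pow_mul, this, one_pow]

omit [Finite X] in
theorem memZ (a : π g = 1) (b : Commute g t) : g ∈ zpowers z := by
  obtain ⟨v, rfl⟩ := h.rg.ge a
  exact h.qz ▸ h.et.memZ h.inj b

theorem hb {m j : X} (em : Ex q m (e 1152)) (ej : Ex q j (e 200)) (m2 : m * m = 1)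
    (mR : π m ∈ ψ.ker) (j3 : j ^ 3 = 1) (mj : Commute m j) {y : Y}
    (hy : y * π j * y⁻¹ = (π j)⁻¹) : HB q m j := by
  refine ⟨h.inj, fun g a => h.qz ▸ h.cz g fun x hx => ?_, fun g _ => ?_, em, ej, m2, j3, mj,
    h.c192.2, fun g s' _ s2 a b => ?_, ?_⟩
  · obtain ⟨v, rfl⟩ := h.rg.ge hx; exact a v
  · rw [h.rg]; exact le_normalizer_of_normal (mem_top g)
  · have st2 : s * t * (s * t) = 1 := by rw [h.st.symm.mul_mul_mul_comm, h.s2, h.t2, one_mul]
    obtain rfl : s' = s * t := eq_of_four (F4L.es_z3 h.hz) (h.zc _)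
      (h.CQ a ((bd! : (e 1 * e 25 : Ga) = e 24) ▸ h.es.mul h.et)) (four_of_sq s2) (four_of_sq st2)
    have c0 : Commute t (s * t) := h.st.symm.mul_right (.refl t)
    obtain ⟨k, ⟨k1, k2⟩, c⟩ := frat2 (K := π.ker ⊓ centralizer {s * t})
      (h.hz.isPGroup.to_le inf_le_left) h.t2 (g := g) ⟨by
        change π _ = 1
        rw [map_mul, map_mul, map_mul, map_inv, h.πt, conj_of_comm (h.τc _), h.hτ.z_mul_z],
        mem_cent.2 (c0.mul_left ((b.mul_left c0).mul_left b.inv_left))⟩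
    obtain ⟨v, rfl⟩ := h.rg.ge k1
    have d : Commute (q v * g) s := by
      simpa [mul_assoc, h.t2] using ((mem_cent.1 k2).mul_left b).mul_right c
    obtain ⟨δ, p, r⟩ := h.ex0 c (d.map π)
    refine ⟨v, δ, mem_cent.1 k2, p, r, h.eqv (ex_pow (((p.mul em).mul p.inv).mul em.inv) 4)
      (ex_one q) ?_⟩
    rw [map_pow, map_one]
    exact h.r4 (by
      rw [map_mul, map_mul, map_mul, map_inv, map_inv]
      exact mul_mem (ψ.normal_ker.conj_mem _ mR _) (inv_mem mR))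
  · obtain ⟨w, rfl⟩ := h.sπ y
    exact ⟨w, h.qz ▸ h.zc w, h.rg.ge (by
      rw [MonoidHom.mem_ker, map_mul, map_mul, map_mul, map_inv, hy, inv_mul_cancel])⟩

end Fm

theorem St.inv3 (h : St π ψ z τ) {j : Y} (j3 : j ^ 3 = 1) (j1 : j ≠ 1) :
    ∃ y, y * j * y⁻¹ = j⁻¹ := by
  have := h.finY
  have p3 : ψ j ^ 3 = 1 := by rw [← map_pow, j3, map_one]
  have p1 : ψ j ≠ 1 := fun k => j1 (by
    have := h.r4 k
    rwa [pow_succ, j3, one_mul] at this)
  obtain ⟨d, a, -⟩ := a5_inv _ p3 p1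
  obtain ⟨d, rfl⟩ := h.sψ d
  obtain ⟨g, hg, b⟩ := conj_of_not_nine (C := (centralizer {ψ j}).comap ψ) (a := d * j * d⁻¹) (b := j)
    (fun k => by have := h.cY ▸ k.trans (card_subgroup_dvd_card _); omega)
    (mem_cent.2 (by rw [map_mul, map_mul, map_inv, a]; exact (Commute.refl _).inv_left))
    (mem_cent.2 (.refl _)) (by rw [conj_pow, j3]; simp) (by simpa using j1) j3 j1
  refine ⟨g * d, Eq.trans (by group) (b.resolve_left fun k => p1 ?_)⟩
  have := congrArg ψ k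
  rw [map_mul, map_mul, map_mul, map_mul, map_inv, map_inv, a,
    conj_of_comm (mem_cent.1 hg).inv_right, inv_eq_iff_mul_eq_one] at this
  rwa [pow_succ, pow_two, this, one_mul] at p3

theorem St.exists_HB (h : St π ψ z τ) :
    ∃ q m j, HB q m j ∧ q.range = π.ker ∧ q (e 81) = z := by
  have := h.finY
  have := Fact.mk Nat.prime_three
  obtain ⟨q, s, t, h⟩ := h.frame
  obtain ⟨⟨J, Js⟩, J3⟩ := exists_prime_orderOf_dvd_card' (G := centralizer {π s}) 3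
    (by rw [h.c192.1]; norm_num)
  rw [orderOf_mk] at J3
  replace Js := mem_cent.1 Js
  have J1 : J ≠ 1 := fun k => by simp [k] at J3
  replace J3 : J ^ 3 = 1 := J3 ▸ pow_orderOf_eq_one J
  obtain ⟨r, rR, rJ, rs⟩ : ∃ r ∈ ψ.ker, Commute r J ∧ ¬ Commute r (π s) := by
    by_contra! k
    have a := card_mod Nat.prime_three J3 fun x hx => ψ.normal_ker.conj_mem x hx J
    have b := card_mod Nat.prime_three J3 (W := ψ.ker ⊓ centralizer {π s}) fun x hx =>
      ⟨ψ.normal_ker.conj_mem x hx.1 J,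
        mem_cent.2 ((Js.mul_left (mem_cent.1 hx.2)).mul_left Js.inv_left)⟩
    rw [show ψ.ker ⊓ centralizer {π s} ⊓ centralizer {J} = ψ.ker ⊓ centralizer {J} from
      le_antisymm (inf_le_inf_right _ inf_le_left) fun x hx =>
        ⟨⟨hx.1, mem_cent.2 (k x hx.1 (mem_cent.1 hx.2))⟩, hx.2⟩, h.c16] at b
    exact absurd (h.cR ▸ a.trans b.symm) (by decide)
  have S2 : π s * π s = 1 := by rw [← map_mul, h.s2, map_one]
  obtain ⟨M, MR, M2, MJ, Ms⟩ : ∃ r ∈ ψ.ker, r * r = 1 ∧ Commute r J ∧ ¬ Commute r (π s) := by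
    rcases h.hτ.sq_eq rR with k | k
    · exact ⟨r, rR, pow_two r ▸ k, rJ, rs⟩
    refine ⟨r * π s, mul_mem rR h.sR, ?_, rJ.mul_left Js.symm,
      fun c => rs (by simpa using c.mul_left (Commute.refl (π s)).inv_left)⟩
    rw [← pow_two, h.hτ.mul_sq rR h.sR, k, pow_two, S2, mul_one,
      (h.hτ.eq_one_or_eq (h.hτ.comm _ rR _ h.sR)).resolve_left
        fun c => rs (commutatorElement_eq_one_iff_commute.1 c), h.hτ.z_mul_z]
  obtain ⟨m₀, rfl⟩ := h.sπ M
  obtain ⟨m, πm, m2, mt⟩ := PS4.lift_inv π h.q27 h.t2 (h.πt ▸ h.τc (π m₀)) M2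
  rw [← πm] at MR MJ Ms
  have ms : m * s * m⁻¹ = s * t := h.fin (X32.conj_sq h.s2)
    (by rw [h.st.symm.mul_mul_mul_comm, h.s2, h.t2, one_mul]) ((mt.mul_left h.st).mul_left mt.inv_left)
    (h.st.mul_left (.refl t)) (by
      simp only [map_mul, map_inv, h.πt]
      exact (h.cjR MR).resolve_left fun k => Ms (comm_of_conj k))
  obtain ⟨μ, em⟩ := h.ex mt (.inr ms)
  obtain ⟨j, rfl, jt⟩ := h.lc J
  obtain ⟨γ, ej, γs⟩ := h.ex0 jt Js
  have mj : Commute m j := (comm_of_conj (h.fin (X32.conj_sq m2) m2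
    ((jt.mul_left mt).mul_left jt.inv_left) mt (by simp [← MJ.eq]))).symm
  obtain ⟨y, hy⟩ := h.inv3 J3 J1
  have j3 : j ^ 3 = 1 := by
    obtain ⟨w, rfl, wt⟩ := h.lc y
    have a := h.memZ (g := w * j * w⁻¹ * j) (by simp only [map_mul, map_inv, hy, inv_mul_cancel])
      (((wt.mul_left jt).mul_left wt.inv_left).mul_left jt)
    have b := h.memZ (g := j ^ 3) (by rw [map_pow, J3]) (jt.pow_left 3)
    have c := (h.cZ j⁻¹ a).symm.mul_pow 3
    rw [mul_inv_cancel_right, conj_pow, conj_of_comm (h.cZ w b), h.hz.pow_eq_one a, one_mul,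
      inv_pow, eq_inv_iff_mul_eq_one] at c
    exact eq_one_of_sq (F4L.es_z3 h.hz) b c
  obtain ⟨δ, a, b, c, d⟩ := (bd! : ∀ μ : Ga, μ * μ = 1 → μ * e 1 * μ⁻¹ = e 1 * e 25 →
      ac μ (e 81) = e 81 → ∀ γ : Ga, Commute γ (e 1) → Commute μ γ → γ ^ 3 = 1 → γ ≠ 1 →
      ∃ δ : Ga, δ⁻¹ * μ * δ = e 1152 ∧ (δ⁻¹ * γ * δ = e 200 ∨ δ⁻¹ * γ⁻¹ * δ = e 200) ∧
        ac δ (e 81) = e 81 ∧ Commute δ (e 1)) μ ((em.mul em).uniq h.inj (m2 ▸ ex_one q))
    (((em.mul h.es).mul em.inv).uniq h.inj (ms ▸ h.es.mul h.et)) (h.exz em) γ γs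
    ((em.mul ej).uniq h.inj (mj.eq ▸ ej.mul em)) ((ex_pow ej 3).uniq h.inj (j3 ▸ ex_one q))
    fun k => J1 ((h.eqπ (k ▸ ej) (ex_one q)).trans (map_one π))
  have h' := h.chg c d
  rcases b with b | b
  · exact ⟨_, m, j, h'.hb (a ▸ ex_chg em δ) (b ▸ ex_chg ej δ) m2 MR j3 mj hy, h'.rg, h'.qz⟩
  · exact ⟨_, m, j⁻¹, h'.hb (a ▸ ex_chg em δ) (b ▸ ex_chg ej.inv δ) m2 MR (by rw [inv_pow, j3, inv_one])
      mj.inv_right (y := y) (by rw [map_inv, ← hy]; simp [hy, ← conj_inv]), h'.rg, h'.qz⟩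

end Cfsg.Agent.Co2L
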