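import Cfsg.Agent.Co2L.JB3

/-!
From `HA` to `JB`: the action on the Thompson subgroup.
-/

set_option autoImplicit false
set_option maxRecDepth 100000
set_option synthInstance.maxHeartbeats 400000
set_option synthInstance.maxSize 4000

namespace Cfsg.Agent.Co2L

open Subgroup Cfsg Cfsg.Agent.Comp Cfsg.Agent.X32.TG Cfsg.Agent.PLocal.Amb Cfsg.Agent.LES
open Cfsg.Agent.Loc3 Cfsg.Agent.Loc3.Pr
open Cfsg.Agent.X32 (TG Tab sub Mem lk)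
open Cfsg.Agent.PS4 (K2 J2 S2 Q2 cjm pow3 l2 link2 inj2 P2)

namespace Jb

variable {G : Type*} [Group G] {φ : K2 →* G} {m : G} {y : W →* G} {Φ : ST →* G}

theorem lin_mem {S : Subgroup G} {A B C : G} (a : A ∈ S) (b : B ∈ S) (c : C ∈ S) (v : V) :
    lin A B C v ∈ S := mul_mem (pow_mem a _) (mul_mem (pow_mem b _) (pow_mem c _))

theorem Q2_le {S : Subgroup K2} (b : e 3 ∈ S) (c : e 5 ∈ S) : Q2 ≤ S := fun k hk => by
  obtain ⟨v, rfl⟩ := (bd! : ∀ k ∈ Q2, ∃ v, lin (e 3 * e 5 * (e 3)⁻¹ * (e 5)⁻¹) (e 3) (e 5) v = k) k hk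
  exact lin_mem (mul_mem (mul_mem (mul_mem b c) (inv_mem b)) (inv_mem c)) b c v

theorem c2 (h : HA φ m) {l : K2} (a : l ∈ M2) (b : Commute (e 135) l) (k : K2) :
    Commute (φ k) (m * φ l * m⁻¹) := by
  have c : Commute (φ (e 135)) (m * φ l * m⁻¹) := conj_of_comm h.mj ▸ Commute.cj (b.map φ) m
  rcases (bd! : ∀ k : K2, k ∈ M2 ∨ k * e 135 ∈ M2 ∨ k * (e 135)⁻¹ ∈ M2) k with d | d | d
  · exact h.cm k d l a
  · simpa using (h.cm _ d l a).mul_left c.inv_left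
  · simpa using (h.cm _ d l a).mul_left c

/-- the frame of `J` -/
structure Mo (φ : K2 →* G) (m : G) (y : W →* G) : Prop extends HA φ m where
  yx : y.comp iv = φ.comp fr
  a2 : y (e 27) = m * φ (e 3) * m⁻¹

theorem exists_Mo (h : HA φ m) : ∃ y, Mo φ m y := by
  refine ⟨ext4 (φ.comp fr) (a := m * φ (e 3) * m⁻¹) (cj_pow (pow3 φ bd!))
    fun v => (c2 h bd! bd! _).symm, h, MonoidHom.ext fun v => ?_, ?_⟩
  · obtain ⟨a, b⟩ := (bd! : ∀ v, cs (iv v) = v ∧ Nat.div (iv v).v 27 = 0) v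
    change φ (fr (cs (iv v))) * _ ^ Nat.div (iv v).v 27 = φ (fr v)
    rw [a, b, pow_zero, mul_one]
  · change φ (fr (cs (e 27 : W))) * _ ^ 1 = _
    rw [(bd! : fr (cs (e 27 : W)) = 1), map_one, one_mul, pow_one]

namespace Mo
variable (h : Mo φ m y)
include h

theorem x (v : V) : y (iv v) = φ (fr v) := DFunLike.congr_fun h.yx v

theorem ye (i j : ℕ) (c : e i = iv (e i) ∧ fr (e i) = e j) : y (e i) = φ (e j) := by
  rw [c.1, h.x, c.2]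

theorem z : y (e 13) = φ (e 1) := h.ye 13 1 bd!

theorem j : y (e 17) = φ (e 135) := h.ye 17 135 bd!

theorem a1 : y (e 5) = φ (e 3) := h.ye 5 3 bd!

theorem aM {k : K2} {g : H} {f : W → W} (a : k ∈ M2 ∧ (∀ v ∈ (es [1, 3, 9] : List V),
    k * fr v * k⁻¹ = fr (ac g v)) ∧ ∀ v, ∃ c, l4 (iv (e 1)) (iv (e 3)) (iv (e 9)) (e 27) c = v ∧
      l4 (iv (ac g (e 1))) (iv (ac g (e 3))) (iv (ac g (e 9))) (e 27) c = f v) : Act4 y (φ k) f :=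
  have b : Act (y.comp iv) (φ k) g := h.yx ▸ act_of a.2.1
  .of_gen (b _) (b _) (b _) (conj_of_comm (h.a2 ▸ h.cm k a.1 _ bd!)) a.2.2

theorem am : Act4 y m fμ := .of_gen (p := e 13) (q := e 17) (r := e 5) (s := e 27) (A := e 13)
  (B := e 17) (C := e 27) (D := e 5) (conj_of_comm (h.z ▸ h.mz)) (conj_of_comm (h.j ▸ h.mj))
  (h.a1 ▸ h.a2.symm) (by
    rw [h.a2, h.a1, show ∀ a, m * (m * a * m⁻¹) * m⁻¹ = m * m * a * (m * m)⁻¹ from fun a => by group,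
      h.m2]; simp) bd!

theorem mc {n : G} {f : W → W} (a : Act4 y n f) :
    Act4 y (m * n * m⁻¹) fun v => fμ (f (fμ v)) :=
  (inv_eq_of_mul_eq_one_right h.m2).symm ▸ (h.am.mul a).mul h.am

theorem exists_Phi : ∃ Φ : ST →* G, (∀ w, Φ (iw w) = y w) ∧ Φ (e 81) = φ (e 5) ∧
    Φ (e 243) = m * φ (e 5) * m⁻¹ := by
  have a : Act4 y (φ (e 5)) (cw (e 81)) := h.aM (g := e 1) bd!
  have b : Act4 y (m * φ (e 5) * m⁻¹) (cw (e 243)) := (h.mc a).cong bd!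
  have p : ∀ {n t}, Act4 y n (cw t) → (∀ v, cw t (cw t v) = cw (t ^ 2) v) →
      ∀ i ∈ [0, 1, 2], Act4 y (n ^ i) (cw (t ^ i)) := fun {n t} a b => by
    simp only [List.forall_mem_cons, pow_zero, pow_one]
    exact ⟨fun v => by simp [(bd! : ∀ v, cw 1 v = v) v], a, pow_two n ▸ (a.mul a).cong b, by simp⟩
  let r : V →* G := linH (A := φ (e 5)) (B := m * φ (e 5) * m⁻¹) (C := 1) (pow3 φ bd!)
    (cj_pow (pow3 φ bd!)) (one_pow _) (h.cm _ bd! _ bd!) (Commute.one_right _) (Commute.one_right _)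
  have r1 : r (e 1) = φ (e 5) := by
    change φ (e 5) ^ 1 * ((m * φ (e 5) * m⁻¹) ^ 0 * 1 ^ 0) = _; simp
  have r2 : r (e 3) = m * φ (e 5) * m⁻¹ := by
    change φ (e 5) ^ 0 * ((m * φ (e 5) * m⁻¹) ^ 1 * 1 ^ 0) = _; simp
  have c : ∀ t, Act4 y (r (hi t)) (cw t) := fun t => by
    obtain ⟨i, hi, k, hk, d, f⟩ := (bd! : ∀ t, ∃ i ∈ [0, 1, 2], ∃ k ∈ [0, 1, 2],
      hi t = e 1 ^ i * e 3 ^ k ∧ ∀ v, cw (e 81 ^ i) (cw (e 243 ^ k) v) = cw t v) t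
    rw [d, map_mul, map_pow, map_pow, r1, r2]
    exact ((p a bd! i hi).mul (p b bd! k hk)).cong f
  refine ⟨MonoidHom.mk' (fun t => y (cs t) * r (hi t)) fun t u => by
    rw [(mul_eq t u).1, (mul_eq t u).2, map_mul, map_mul, ← c t]; group, fun w => ?_, ?_, ?_⟩
  · obtain ⟨d, f⟩ := (bd! : ∀ w, cs (iw w) = w ∧ hi (iw w) = 1) w
    change y _ * r _ = _
    rw [d, f, map_one, mul_one]
  · change y 1 * r (e 1) = _
    rw [map_one, one_mul, r1]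
  · change y 1 * r (e 3) = _
    rw [map_one, one_mul, r2]

theorem exists_Ab : ∃ Φ, Ab y Φ ∧ QH φ m = QT.map Φ ∧ QH φ m ⊔ zpowers (φ (e 135)) = Φ.range := by
  obtain ⟨Φ, a, b, c⟩ := h.exists_Phi
  have f : ∀ i, e i = iw (e i) ∧ e i ∈ QT → Φ (e i) = y (e i) ∧ y (e i) ∈ QT.map Φ := fun i d =>
    ⟨d.1 ▸ a _, a _ ▸ d.1 ▸ mem_map_of_mem Φ d.2⟩
  have q : QH φ m = QT.map Φ := by
    refine le_antisymm (sup_le (map_le_iff_le_comap.2 (Q2_le (h.a1 ▸ (f 5 bd!).2 : φ _ ∈ _)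
      (b ▸ mem_map_of_mem Φ bd! : φ _ ∈ _))) (map_le_iff_le_comap.2 (map_le_iff_le_comap.2
        (Q2_le (h.a2 ▸ (f 27 bd!).2 : m * φ _ * m⁻¹ ∈ _)
          (c ▸ mem_map_of_mem Φ bd! : m * φ _ * m⁻¹ ∈ _))))) (map_le_iff_le_comap.2
      (rank_ind (gs := es [81, 243, 27, 13, 5]) (p := (· ∈ QT)) bd! ?_))
    simp only [es, List.map, List.forall_mem_cons, mem_comap, b, c, (f 27 bd!).1, (f 13 bd!).1,
      (f 5 bd!).1, h.a1, h.a2, h.z]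
    exact ⟨mem_sup_left (mem_map_of_mem φ bd!), mem_sup_right (conj_mem_cj m (mem_map_of_mem φ bd!)),
      mem_sup_right (conj_mem_cj m (mem_map_of_mem φ bd!)), mem_sup_left (mem_map_of_mem φ bd!),
      mem_sup_left (mem_map_of_mem φ bd!), by simp⟩
  have s : QH φ m ⊔ zpowers (φ (e 135)) = Φ.range := by
    rw [q, ← h.j, ← a]
    refine le_antisymm (sup_le (map_le_range _ _) (zpowers_le.2 ⟨_, rfl⟩)) ?_
    rintro _ ⟨t, rfl⟩
    exact top_of (H := comap Φ _) (fun t ht => mem_sup_left (mem_map_of_mem Φ ht))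
      (mem_comap.2 (mem_sup_right (mem_zpowers _))) t
  refine ⟨Φ, ⟨injS fun d => absurd (h.inj (h.z.symm.trans ((f 13 bd!).1.symm.trans
    (d.trans (map_one φ).symm)))) bd!, a, s ▸ h.syl, fun g d => q ▸ h.nQ g (h.z ▸ d),
    fun g d => h.z ▸ h.cQ g ?_⟩, q, s⟩
  rw [q]
  rintro _ ⟨t, ht, rfl⟩
  exact d t ht

variable [Finite G]

theorem conjJ {p : G} (hp : p ∈ QH φ m) : ∃ d, Commute d (φ (e 1)) ∧ d * p * d⁻¹ ∈ y.range := by
  have M : ∀ k ∈ Q2, k ∈ M2 := bd!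
  obtain ⟨_, ⟨a, ha, rfl⟩, _, ⟨_, ⟨b, hb, rfl⟩, rfl⟩, rfl⟩ := (mem_sup_of_le_normalizer_right (by
    rintro _ ⟨a, ha, rfl⟩
    refine mem_normalizer_fintype ?_
    rintro _ ⟨_, ⟨b, hb, rfl⟩, rfl⟩
    exact (conj_of_comm (h.cm a (M a ha) b (M b hb))).symm ▸
      conj_mem_cj m (mem_map_of_mem φ hb))).1 hp
  have t : ∀ a ∈ Q2, ∃ k ∈ (es [0, 27, 81, 216] : List K2), k ∈ M2 ∧ Commute k (e 1) ∧
    k * a * k⁻¹ ∈ M2 ∧ ∃ v, k * a * k⁻¹ = fr v := bd!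
  obtain ⟨k, -, k1, k2, -, u, k3⟩ := t a ha
  obtain ⟨l, -, l1, l2, l3, v, l4⟩ := t b hb
  refine ⟨φ k * (m * φ l * m⁻¹), (k2.map φ).mul_left
    (conj_of_comm h.mz ▸ Commute.cj (l2.map φ) m), ?_⟩
  have := mul_mem (⟨iv u, rfl⟩ : _ ∈ y.range) (conj_mem_of_mem_normalizer h.am.norm ⟨iv v, rfl⟩)
  rw [h.x, h.x, ← l4, ← conj_of_comm (h.cm k k1 _ l3), ← cjm φ k3, ← cjm φ (rfl : l * b * l⁻¹ = _),
    ← conj_of_comm (h.cm a (M a ha) l l1).symm] at this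
  convert this using 1
  simp only [MulEquiv.coe_toMonoidHom, MulAut.conj_apply]; group

theorem exists_c : ∃ c ∈ (es [0, 1, 2] : List K2), Fu (φ (e 1)) (φ (e 135 * c)) := by
  obtain ⟨Φ, a, q, s⟩ := h.exists_Ab
  obtain ⟨g, b, c⟩ := h.nwc
  obtain ⟨w, d, f⟩ : ∃ w, Fu (φ (e 1)) (y w) ∧ y w ∉ zpowers (φ (e 1)) := by
    obtain ⟨t, d⟩ := s.le b
    rcases t_wc t (a.inj (by rw [map_pow, map_one, d]; exact cj_pow (pow3 φ bd!))) with f | f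
    · obtain ⟨w, f⟩ := a.mem f
      exact ⟨w, Fu.of (f.trans d).symm, (f.trans d).symm ▸ c⟩
    · obtain ⟨k, p, w, r⟩ := h.conjJ (q.ge (mem_map_of_mem Φ f.1))
      refine ⟨w, (Fu.of d.symm).trans (Fu.of r.symm), fun n => c ?_⟩
      simpa [r, d, mul_assoc] using inv_conj_mem_of_mem_normalizer (centralizer_le_normalizer' _
        ((centralizer_zpowers _).ge (mem_cent.2 p))) n
  rw [← h.z] at d f
  have p : ¬ Pz w := fun p => f (a.zp.2 (a.nf p d))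
  obtain ⟨k, hk, v, -, e2⟩ := (bd! : ∀ w, ¬ Pz w → ∃ c ∈ (es [0, 1, 2] : List K2),
    ∃ v ∈ (es [17, 18, 4] : List V), fr v = e 135 * c ∧ ¬ Pz (iv v) ∧ nm w = nm (iv v)) w p
  exact ⟨k, hk, by rw [← e2.1, ← h.x, ← h.z]; exact d.trans (a.orb p e2.2.1 e2.2.2)⟩

end Mo

theorem chg (h : HA φ m) {c : K2} (hc : c ∈ (es [0, 1, 2] : List K2)) :
    ∃ ψ, HA ψ m ∧ ψ (e 1) = φ (e 1) ∧ ψ (e 135) = φ (e 135 * c) := by
  obtain ⟨α, hα⟩ := link_hom link2 (x := tup [e 1, e 2, e 135 * c, (e 135 * c)⁻¹, e 3,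
    e 4, e 5, e 6, e 27, e 54, e 81, e 108]) (sat_tup le_rfl
      ((bd! : ∀ c ∈ (es [0, 1, 2] : List K2), ∀ k ∈ List.range P2.inv.length,
        tup [e 1, e 2, e 135 * c, (e 135 * c)⁻¹, e 3, e 4, e 5, e 6, e 27, e 54, e 81,
          e 108] (P2.I k) * tup [e 1, e 2, e 135 * c, (e 135 * c)⁻¹, e 3, e 4, e 5, e 6,
          e 27, e 54, e 81, e 108] k = 1) c hc)
      ((bd! : ∀ c ∈ (es [0, 1, 2] : List K2), ∀ r ∈ P2.rels, BN.ev (tup [e 1, e 2,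
        e 135 * c, (e 135 * c)⁻¹, e 3, e 4, e 5, e 6, e 27, e 54, e 81, e 108]) r = 1) c hc))
  have f : ∀ k ∈ M2, α k = k := rank_ind (H := α.eqLocus (MonoidHom.id _)) (p := (· ∈ M2))
    (gs := [0, 1, 4, 5, 6, 7, 8, 9, 10, 11].map fun i => BN.ev (tup l2) [i]) bd! fun g hg => by
      obtain ⟨i, hi, rfl⟩ := List.mem_map.1 hg
      refine (hα [i]).trans ?_
      simp only [List.mem_cons, List.not_mem_nil, or_false] at hi
      rcases hi with rfl | rfl | rfl | rfl | rfl | rfl | rfl | rfl | rfl | rfl <;> rfl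
  have f1 : ∀ k ∈ M2, (φ.comp α) k = φ k := fun k a => congrArg φ (f k a)
  have f2 : (φ.comp α) (e 135) = φ (e 135) * φ c := by
    simpa [tup, l2, es] using congrArg φ (hα [2])
  have ia := inj2 (φ := α) (by rw [f _ bd!]; exact bd!)
  have z := f1 (e 1) bd!
  have q : QH (φ.comp α) m = QH φ m := by
    have : Q2.map (φ.comp α) = Q2.map φ := SetLike.coe_injective (Set.image_congr fun k a =>
      f1 k ((bd! : ∀ k ∈ Q2, k ∈ M2) k a))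
    rw [QH, this, QH]
  have cz : φ c ∈ zpowers (φ (e 1)) := PS4.mem_zp φ
    ((bd! : ∀ c ∈ (es [0, 1, 2] : List K2), c = 1 ∨ c = e 1 ∨ c = (e 1)⁻¹) c hc)
  have cc : ∀ {g}, Commute g (φ (e 1)) → Commute g (φ c) := fun a => by
    obtain ⟨n, b⟩ := cz
    exact b ▸ a.zpow_right n
  have cQ : φ c ∈ QH φ m := zpowers_le.2 (mem_sup_left (mem_map_of_mem φ bd!)) cz
  have s : QH φ m ⊔ zpowers (φ (e 135) * φ c) = QH φ m ⊔ zpowers (φ (e 135)) := le_antisymm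
    (sup_le le_sup_left (zpowers_le.2 (mul_mem (mem_sup_right (mem_zpowers _)) (mem_sup_left cQ))))
    (sup_le le_sup_left (zpowers_le.2 ((mul_mem_cancel_right (mem_sup_left cQ)).1
      (mem_sup_right (mem_zpowers _)))))
  refine ⟨φ.comp α, ⟨h.inj.comp ia, h.m2, z ▸ h.mz, f2 ▸ h.mj.mul_right (cc h.mz),
    fun k a l b => by rw [f1 k a, f1 l b]; exact h.cm k a l b, fun g a b => ?_, ?_, ?_, ?_, ?_, ?_⟩,
    z, f2.trans (map_mul ..).symm⟩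
  · obtain ⟨k, l, c, rfl⟩ := h.cs g (z ▸ a) (f1 (e 189) bd! ▸ b)
    obtain ⟨k, rfl⟩ := Finite.injective_iff_surjective.1 ia k
    exact ⟨k, l, c, by rw [f1 l ((bd! : ∀ k ∈ Q8, k ∈ M2) l c)]; rfl⟩
  · rw [q, z]; exact h.nQ
  · rw [q, z]; exact h.cQ
  · rw [q, f2, s]; exact h.syl
  · rw [q, f2, s, z]; exact h.nwc
  · obtain ⟨w, a, b⟩ := h.inv
    rw [q, f2, z]
    refine ⟨w, a, ?_⟩
    rw [← conj_mul, conj_of_comm (cc a), mul_assoc, ← mul_assoc (φ c),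
      ← (cc (((bd! : Commute (e 135 : K2) (e 1))).map φ)).eq, mul_assoc (φ _), ← mul_assoc]
    exact mul_mem b (mul_mem cQ cQ)

end Jb

open Jb in
theorem HA.exists_JB {G : Type*} [Group G] [Finite G] {φ : K2 →* G} {m : G} (h : HA φ m) :
    ∃ ψ : K2 →* G, JB ψ m := by
  obtain ⟨y, k⟩ := exists_Mo h
  obtain ⟨c, hc, f⟩ := k.exists_c
  obtain ⟨φ, h, e1, e2⟩ := chg h hc
  obtain ⟨y, k⟩ := exists_Mo h
  obtain ⟨Φ, a, q, -⟩ := k.exists_Ab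
  have aσ : Act4 y (φ (e 189)) fσ := k.aM (g := e 3) bd!
  have b : Ac y Φ m (φ (e 189)) (m * φ (e 189) * m⁻¹) := ⟨a, by rwa [k.z, k.j, e1, e2], k.am, aσ,
    (k.mc aσ).cong bd!, X32.conj_sq (X32.Setup.sq bd!), by rw [k.z, k.j, ← q]; exact h.inv⟩
  obtain ⟨g, c1, c2, c3, u, c4⟩ := b.eps
  have c5 : Act (φ.comp fr) _ (e 24) := k.yx ▸ c2.act bd!
  refine ⟨φ, h, k.yx ▸ fun n => b.mon, fun l => ?_, k.yx ▸ fun g => b.ext,
    fun K hK hn => a.sig b.hj K hK (le_trans ?_ hn), g, u, 1, c1, c5, k.yx ▸ c4, k.yx ▸ ?_⟩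
  · have p : e 1 ∈ Gam (φ.comp fr) (centralizer {m * φ (e 189) * m⁻¹}) :=
      ⟨_, mem_cent.2 (h.cm (e 5) bd! _ bd!), act_of bd!⟩
    have r : e 3 ∈ Gam (φ.comp fr) (centralizer {m * φ (e 189) * m⁻¹}) :=
      ⟨_, mem_cent.2 (h.cm (e 189) bd! _ bd!), act_of bd!⟩
    have s : e 24 ∈ Gam (φ.comp fr) (centralizer {m * φ (e 189) * m⁻¹}) := ⟨_, mem_cent.2 c1, c5⟩
    have t := nu_mem p r s bd!
    obtain ⟨n, d, f⟩ := all_mem p r t ((bd! : (e 18 * e 24 : H) = e 42) ▸ mul_mem t s) l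
    exact ⟨n, mem_cent.1 d, f⟩
  · rintro _ ⟨w, rfl⟩
    obtain ⟨i, -, d⟩ := (bd! : ∀ w : W, ∃ i ∈ [0, 1, 2], w = iv (Jb.cs w) * e 27 ^ i) w
    rw [d, map_mul, map_pow, k.x, k.a2]
    exact mul_mem (mem_sup_left ⟨_, rfl⟩) (mem_sup_right (pow_mem (mem_zpowers _) i))
  · rw [ac_one]; exact c3

end Cfsg.Agent.Co2L
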