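import Cfsg.Agent.Co2L.JB1

/-!
Fusion in the Thompson subgroup `3^4` of a Sylow subgroup `3^(1+4):3`.
-/

set_option autoImplicit false
set_option maxRecDepth 100000
set_option synthInstance.maxHeartbeats 400000
set_option synthInstance.maxSize 4000

namespace Cfsg.Agent.Co2L.Jb

open Subgroup Cfsg Cfsg.Agent.Comp Cfsg.Agent.X32.TG Cfsg.Agent.PLocal.Amb
open Cfsg.Agent.Loc3 Cfsg.Agent.Loc3.Pr
open Cfsg.Agent.X32 (TG Tab sub Mem lk)
open Cfsg.Agent.PS4 (cjm pow3)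

variable {G : Type*} [Group G] {y : W →* G} {Φ : ST →* G}

/-- `n` acts on the frame as `f` -/
def Act4 (y : W →* G) (n : G) (f : W → W) : Prop := ∀ v, n * y v * n⁻¹ = y (f v)

namespace Act4
variable {n m : G} {f g : W → W}

theorem mul (a : Act4 y n f) (b : Act4 y m g) : Act4 y (n * m) fun v => f (g v) := fun v => by
  rw [← a, ← b]; group

theorem cong (a : Act4 y n f) (e : ∀ v, f v = g v) : Act4 y n g := fun v => e v ▸ a v

theorem norm [Finite G] (a : Act4 y n f) : n ∈ 𝐍[y.range] := mem_normalizer_fintype (by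
  rintro _ ⟨v, rfl⟩; exact ⟨_, (a v).symm⟩)

theorem cj (a : Act4 y n f) {v w : W} (e : f v = w) : n * y v * n⁻¹ = y w := e ▸ a v

theorem of_gen {p q r s A B C D : W} (a : n * y p * n⁻¹ = y A) (b : n * y q * n⁻¹ = y B)
    (c : n * y r * n⁻¹ = y C) (d : n * y s * n⁻¹ = y D)
    (h : ∀ v, ∃ c, l4 p q r s c = v ∧ l4 A B C D c = f v) : Act4 y n f := fun v => by
  obtain ⟨k, rfl, e⟩ := h v
  rw [← e, map_l4, map_l4, ← a, ← b, ← c, ← d]
  exact map_l4 (MulAut.conj n).toMonoidHom ..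

theorem surj (inj : Function.Injective y) (a : Act4 y n f) : Function.Surjective f :=
  Finite.surjective_of_injective fun v w e => inj (by simpa [← a v, ← a w] using congrArg y e)

theorem conj (inj : Function.Injective y) (a : Act4 y n f) (b : Act4 y m g) {k : W → W}
    (c : ∀ v, f (g v) = k (f v)) : Act4 y (n * m * n⁻¹) k := fun v => by
  obtain ⟨v, rfl⟩ := a.surj inj v
  rw [← c, ← a, ← a, ← b]; group

end Act4

theorem exists_act (inj : Function.Injective y) {n : G} (hn : n ∈ 𝐍[y.range]) :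
    ∃ T : W →* W, Act4 y n T := by
  choose T hT using fun v => conj_mem_of_mem_normalizer hn (⟨v, rfl⟩ : y v ∈ y.range)
  exact ⟨MonoidHom.mk' T fun v w => inj (by rw [map_mul, hT, hT, hT, map_mul, conj_mul]),
    fun v => (hT v).symm⟩

theorem mem3 {T : W →* W} {a b p : W} (e : T a = b ∨ T a = b⁻¹) (h : p ∈ [1, a, a⁻¹]) :
    T p ∈ [1, b, b⁻¹] := by
  simp only [List.mem_cons, List.not_mem_nil, or_false] at h ⊢
  rcases h with rfl | rfl | rfl <;> rcases e with e | e <;> simp [e]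

/-- conjugate up to inversion -/
def Fu (a b : G) : Prop := ∃ g, g * a * g⁻¹ = b ∨ g * a * g⁻¹ = b⁻¹

theorem Fu.of {g a b : G} (e : g * a * g⁻¹ = b) : Fu a b := ⟨g, Or.inl e⟩

theorem Fu.symm {a b : G} (h : Fu a b) : Fu b a := by
  obtain ⟨g, e | e⟩ := h
  · exact ⟨g⁻¹, Or.inl (by rw [← e]; group)⟩
  · exact ⟨g⁻¹, Or.inr (by rw [← inv_inv b, ← e]; group)⟩

theorem Fu.trans {a b c : G} (h : Fu a b) (k : Fu b c) : Fu a c := by
  obtain ⟨g, e⟩ := h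
  obtain ⟨n, f⟩ := k
  refine ⟨n * g, ?_⟩
  rw [show n * g * a * (n * g)⁻¹ = n * (g * a * g⁻¹) * n⁻¹ by group]
  rcases e with e | e <;> rw [e]
  exacts [f, by rw [conj_inv']; exact f.symm.imp inv_eq_iff_eq_inv.2 (congrArg _)]

theorem top_of {H : Subgroup ST} (a : QT ≤ H) (b : iw (e 17) ∈ H) (t : ST) : t ∈ H := by
  rcases (bd! : ∀ t, t ∈ QT ∨ t * iw (e 17) ∈ QT ∨ t * (iw (e 17))⁻¹ ∈ QT) t with c | c | c
  exacts [a c, (mul_mem_cancel_right b).1 (a c), (mul_mem_cancel_right (inv_mem b)).1 (a c)]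

theorem ycube (y : W →* G) (v : W) : y v ^ 3 = 1 := pow3 y (Wcube v)

theorem ycomm (y : W →* G) (v w : W) : Commute (y v) (y w) := (Wcomm v w).map y

/-- the setting -/
structure Ab (y : W →* G) (Φ : ST →* G) : Prop where
  inj : Function.Injective Φ
  yΦ : ∀ w, Φ (iw w) = y w
  syl : IsSyl 3 Φ.range ⊤
  nQ : ∀ g, Commute g (y (e 13)) → g ∈ 𝐍[QT.map Φ]
  cQ : ∀ g, (∀ t ∈ QT, Commute g (Φ t)) → g ∈ zpowers (y (e 13))

namespace Ab
variable (h : Ab y Φ)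
include h

theorem iy : Function.Injective y := fun v w a => ((injective_iff_map_eq_one iw).2 bd!)
  (h.inj ((h.yΦ v).trans (a.trans (h.yΦ w).symm)))

theorem zp {j v : W} : y v ∈ zpowers (y j) ↔ v ∈ [1, j, j⁻¹] := by
  rw [mem_zpowers_three (ycube y j), ← map_inv, ← map_one y]
  simp only [h.iy.eq_iff]
  simp

theorem act (t : ST) : Act4 y (Φ t) (cw t) := fun v => by
  rw [← h.yΦ, ← h.yΦ]; exact cjm Φ (cw_eq t v)

theorem JS : y.range ≤ Φ.range := by rintro _ ⟨v, rfl⟩; exact ⟨_, h.yΦ v⟩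

theorem mem {t : ST} (a : t.v < 81) : Φ t ∈ y.range :=
  ⟨cs t, by rw [← h.yΦ, (bd! : ∀ t : ST, t.v < 81 → iw (cs t) = t) t a]⟩

theorem mQ {w : W} : y w ∈ QT.map Φ ↔ Pz w := by
  rw [← h.yΦ, mem_map_iff_mem h.inj]
  exact (bd! : ∀ w, iw w ∈ QT ↔ Pz w) w

theorem orb {v w : W} (a : ¬ Pz v) (b : ¬ Pz w) (c : nm v = nm w) : Fu (y v) (y w) := by
  obtain ⟨t, -, d⟩ := t_orb v a w b c
  exact ⟨Φ t, d.imp (h.act t).cj fun d => map_inv y w ▸ (h.act t).cj d⟩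

variable [Finite G]

theorem wc (g : G) (a : cj(g, y.range) ≤ Φ.range) : g ∈ 𝐍[y.range] := by
  refine mem_normalizer_of_cj_le fun p b => ?_
  obtain ⟨t, rfl⟩ := a b
  have cm : ∀ p ∈ cj(g, y.range), ∀ q ∈ cj(g, y.range), Commute p q := by
    rintro _ ⟨_, ⟨u, rfl⟩, rfl⟩ _ ⟨_, ⟨v, rfl⟩, rfl⟩; exact Commute.cj (ycomm y u v) g
  rcases t_wc t (h.inj (by
    obtain ⟨_, ⟨v, rfl⟩, e⟩ := b
    rw [map_pow, map_one, ← e]; exact cj_pow (ycube y v))) with c | ⟨-, c, p, -, cp, q, cq, d⟩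
  · exact h.mem c
  have := eq_of_le_of_card_ge (show cj(g, y.range) ≤ (centralizer {t}).map Φ from fun p hp => by
    obtain ⟨u, rfl⟩ := a hp
    exact mem_map_of_mem Φ (mem_cent.2 (Commute.of_map h.inj (cm _ hp _ b)))) (by
    rw [card_map_of_injective h.inj, c, card_cj,
      ← Nat.card_congr (MonoidHom.ofInjective h.iy).toEquiv, TG.card]; rfl)
  exact (d (Commute.of_map h.inj (cm _ (this.ge (mem_map_of_mem Φ (mem_cent.2 cp))) _
    (this.ge (mem_map_of_mem Φ (mem_cent.2 cq)))))).elim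

theorem fus {a b : W} (p : Fu (y a) (y b)) :
    ∃ n, ∃ T : W →* W, Act4 y n T ∧ (T a = b ∨ T a = b⁻¹) := by
  have := Fact.mk Nat.prime_three
  have c : ∀ v, ∀ j ∈ y.range, Commute j (y v) := by rintro v _ ⟨u, rfl⟩; exact ycomm ..
  obtain ⟨g, p⟩ := p
  rw [← map_inv] at p
  have d : ∀ j ∈ y.range, Commute j (g * y a * g⁻¹) := by rcases p with p | p <;> exact p ▸ c _
  obtain ⟨n, hn, f, -⟩ := burn_fus h.syl h.JS h.wc (c a) (c a) d d
  obtain ⟨T, k⟩ := exists_act h.iy hn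
  rw [← f, k a] at p
  exact ⟨n, T, k, p.imp (h.iy ·) (h.iy ·)⟩

theorem nS {g : G} (a : Commute g (y (e 13))) (b : g * y (e 17) * g⁻¹ ∈ Φ.range) :
    g ∈ 𝐍[Φ.range] := mem_normalizer_fintype (by
  rintro _ ⟨t, rfl⟩
  refine top_of (H := Φ.range.comap ((MulAut.conj g).toMonoidHom.comp Φ)) (fun t ht => ?_)
    (h.yΦ _ ▸ b : g * Φ _ * g⁻¹ ∈ _) t
  exact map_le_range Φ _ (conj_mem_of_mem_normalizer (h.nQ g a) (mem_map_of_mem Φ ht)))

theorem mS {g : G} (a : Commute g (y (e 13))) (b : g ∈ 𝐍[y.range]) (c : g ^ 3 ^ 2 = 1) :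
    g ∈ Φ.range := h.syl.le_of_normalizes (isPGroup_zpowers ⟨2, c⟩) le_top
  (zpowers_le.2 (h.nS a (h.JS (conj_mem_of_mem_normalizer b ⟨_, rfl⟩)))) (mem_zpowers g)

omit [Finite G] in
theorem cP {g : G} (c : ∀ w, Pz w → Commute g (y w)) : (g ^ 3) ^ 3 = 1 := by
  obtain ⟨n, a⟩ := h.cQ (g ^ 3) fun t ht => by
    obtain ⟨u, hu, e1⟩ := conj_mem_of_mem_normalizer (h.nQ g (c _ bd!)) (mem_map_of_mem Φ ht)
    obtain ⟨hw, e2⟩ := (bd! : ∀ s ∈ QT, (∀ a ∈ (es [5, 27] : List W), cw s a = a) →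
      Pz (cs s) ∧ iw (cs s) = s) (t⁻¹ * u) (mul_mem (inv_mem ht) hu) fun a ha => h.iy (by
        obtain ⟨p, q⟩ := (bd! : ∀ a ∈ (es [5, 27] : List W), Pz a ∧ ∀ t, Pz (cw t a)) a ha
        rw [← h.act, map_mul, e1, map_inv]
        calc _ = (Φ t)⁻¹ * (g * (Φ t * (g⁻¹ * y a * g⁻¹⁻¹) * (Φ t)⁻¹) * g⁻¹) * Φ t := by group
          _ = _ := by
            rw [conj_of_comm (c a p).inv_left, h.act t a, conj_of_comm (c _ (q t)), ← h.act t a]
            group)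
    exact conj3 (z := y (cs (t⁻¹ * u))) (by rw [← e1, ← h.yΦ, e2]; simp) (c _ hw) (ycube y _)
  rw [← a, ← zpow_natCast, ← zpow_mul, mul_comm, zpow_mul, zpow_natCast, ycube, one_zpow]

theorem cJ {g : G} (c : ∀ w, Commute g (y w)) : g ∈ y.range := by
  obtain ⟨t, rfl⟩ := h.mS (c _) (Act4.norm (f := id) fun v => conj_of_comm (c v))
    (by rw [pow_two, pow_mul, h.cP fun w _ => c w])
  exact h.mem ((bd! : ∀ t : ST, cw t (e 17) = e 17 → t.v < 81) t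
    (h.iy ((h.act t _).symm.trans (conj_of_comm (c _)))))

theorem nf {w : W} (a : Pz w) (b : Fu (y (e 13)) (y w)) : w ∈ [1, e 13, (e 13)⁻¹] := by
  obtain ⟨n, T, k, d⟩ := h.fus b
  refine (t_3a w a).resolve_right fun ⟨t, _, c, f⟩ => f ?_
  obtain ⟨u, e1⟩ := h.mS (g := n⁻¹ * Φ t * n) (by
      rw [← Commute.symm_iff, ← comm_conj_iff, k]
      have := (comm_of_conj ((h.act t).cj c)).symm
      rcases d with d | d <;> rw [d]
      exacts [this, map_inv y w ▸ this.inv_left])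
    (mul_mem (mul_mem (inv_mem k.norm) (h.act t).norm) k.norm) (by
      rw [← inv_inv n, inv_inv n⁻¹]
      exact cj_pow (by rw [← map_pow, (bd! : ∀ t : ST, t ^ 3 ^ 2 = 1) t, map_one]))
  have e2 : ∀ v, cw t (T v) = T (cw u v) := fun v => h.iy (by
    rw [← h.act, ← k, ← k, ← h.act, e1]; group)
  obtain ⟨v, e3⟩ := k.surj h.iy (e 17)
  rw [← e3, e2, ← map_inv, ← map_mul, e2, ← map_inv, ← map_mul]
  exact mem3 d (t_dd u v)

theorem sg0 (hj : Fu (y (e 13)) (y (e 17))) {w : W} (a : Sg w) : Fu (y (e 13)) (y w) := by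
  rcases (bd! : ∀ w, Sg w → w = e 13 ∨ w = (e 13)⁻¹ ∨ ¬ Pz w ∧ nm (e 17) = nm w) w a with
    rfl | rfl | b
  exacts [⟨1, by simp⟩, ⟨1, by simp⟩, hj.trans (h.orb bd! b.1 b.2)]

theorem sg1 (hj : Fu (y (e 13)) (y (e 17))) {w : W} (a : Fu (y (e 13)) (y w)) : Sg w := by
  by_cases p : Pz w
  · refine ((bd! : ∀ w ∈ [1, e 13, (e 13)⁻¹], w = 1 ∨ Sg w) w (h.nf p a)).resolve_left ?_
    rintro rfl
    obtain ⟨g, a⟩ := a
    rw [map_one, inv_one, or_self, conj_eq_one_iff, ← map_one y] at a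
    exact absurd (h.iy a) bd!
  refine ((bd! : ∀ w, ¬ Pz w → Sg w ∨ ∃ u ∈ (es [9, 4] : List W), nm w = nm u) w p).resolve_right
    fun ⟨u, hu, b⟩ => ?_
  obtain ⟨n, T, k, d⟩ := h.fus hj
  obtain ⟨c, c3, f⟩ := t_3c (T (e 13)) (by simpa using d) u hu (T (e 5)) (T (e 27))
  obtain ⟨q, r⟩ := (bd! : ∀ c : V, ¬ c.v < 3 → Pz (lin (e 13) (e 5) (e 27) c) ∧
    lin (e 13) (e 5) (e 27) c ∉ ([1, e 13, (e 13)⁻¹] : List W)) c c3
  rw [← map_lin] at f
  refine r (f.elim (fun f => ?_) fun f => h.nf q (Fu.trans ?_ (Fu.of (k _)).symm))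
  · have := k (lin (e 13) (e 5) (e 27) c)
    rw [f, map_one, conj_eq_one_iff, ← map_one y] at this
    simp [h.iy this]
  · exact f.elim (h.sg0 hj) fun f => a.trans (h.orb p f.1 (b.trans f.2.symm))

theorem sg (hj : Fu (y (e 13)) (y (e 17))) {v w : W} (a : Fu (y v) (y w)) (b : Sg v) : Sg w :=
  h.sg1 hj ((h.sg0 hj b).trans a)

theorem fpf (hj : Fu (y (e 13)) (y (e 17))) {K : Subgroup G} (hK : (Nat.card K).Coprime 3)
    (hn : y.range ≤ 𝐍[K]) {w : W} (a : Sg w) {k : G} (hk : k ∈ K) (c : Commute k (y w)) :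
    k = 1 := by
  obtain ⟨n, T, b, d⟩ := h.fus (h.sg0 hj a)
  have z : Commute (n⁻¹ * k * n) (y (e 13)) := by
    rw [← Commute.symm_iff, ← comm_conj_iff, b]
    rcases d with d | d <;> rw [d]
    exacts [c.symm, map_inv y w ▸ c.symm.inv_left]
  have := h.cP (g := n⁻¹ * k * n) fun p hp => by
    obtain ⟨t, ht, f⟩ := mul_mem (conj_mem_of_mem_normalizer (h.nQ _ z) (h.mQ.2 hp))
      (inv_mem (h.mQ.2 hp))
    rw [← Commute.symm_iff, ← comm_conj_iff, b]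
    refine (comm_of_conj (mul_inv_eq_one.1 (N3.cop hK _ (by
      simpa [mul_assoc] using mul_mem hk
        (conj_mem_of_mem_normalizer (hn ⟨T p, rfl⟩) (inv_mem hk))) ?_))).symm
    rw [show k * y (T p) * k⁻¹ * (y (T p))⁻¹ = n * Φ t * n⁻¹ by rw [f, ← b]; group]
    exact cj_pow (pow3 Φ ((bd! : ∀ t ∈ QT, t ^ 3 = 1) t ht))
  rw [← inv_inv n, inv_inv n⁻¹, conj_pow, conj_pow, conj_eq_one_iff] at this
  exact N3.cop hK _ hk (N3.cop hK _ (pow_mem hk 3) this)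

theorem four (hj : Fu (y (e 13)) (y (e 17))) {p : W} (hp : Sg p ∧ p ≠ 1 ∧ e 13 ∉ [1, p, p⁻¹])
    {K : Subgroup G} (hK : (Nat.card K).Coprime 3) (hn : y.range ≤ 𝐍[K])
    (a : ∀ u ∈ [e 13 * p, e 13 * p⁻¹], ∀ L ≤ K, (Nat.card L).Coprime 3 → y.range ≤ 𝐍[L] →
      (∀ k ∈ L, Commute k (y u)) → L = ⊥) : K = ⊥ := by
  have b : ∀ u ∈ [e 13 * p, e 13 * p⁻¹], ∀ k ∈ K, Commute k (y u) → k = 1 := fun u hu k hk c =>
    (a u hu (K ⊓ centralizer {y u}) inf_le_left (hK.coprime_dvd_left (card_dvd_of_le inf_le_left))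
      (le_normalizer_inf hn (le_trans (by rintro _ ⟨v, rfl⟩; exact mem_cent.2 (ycomm ..))
        le_normalizer)) fun k hk => mem_cent.1 hk.2).le ⟨hk, mem_cent.2 c⟩
  refine le_bot_iff.1 (le_of_four (ycube y (e 13)) (ycube y p) (ycomm ..)
    (fun c => hp.2.1 (h.iy (c.trans (map_one y).symm))) (fun c => hp.2.2 (h.zp.1 c))
    (hn ⟨_, rfl⟩) (hn ⟨_, rfl⟩) hK fun k hk c => ?_)
  rw [← map_inv, ← map_mul, ← map_mul] at c
  rcases c with c | c | c | c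
  exacts [h.fpf hj hK hn bd! hk c, h.fpf hj hK hn hp.1 hk c, b _ (by simp) k hk c,
    b _ (by simp) k hk c]

theorem sig (hj : Fu (y (e 13)) (y (e 17))) : Sig y.range := fun K hK hn =>
  h.four hj (p := e 14) bd! hK hn fun u hu K _ hK hn cu =>
    h.four hj (p := e 16) bd! hK hn fun v hv L l hK hn cv =>
      h.four hj (p := e 28) bd! hK hn fun w hw M m hK hn cw => eq_bot_iff.2 fun k hk => by
        obtain ⟨c, d⟩ := (bd! : ∀ u ∈ [e 13 * e 14, e 13 * (e 14)⁻¹],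
          ∀ v ∈ [e 13 * e 16, e 13 * (e 16)⁻¹], ∀ w ∈ [e 13 * e 28, e 13 * (e 28)⁻¹],
            ∃ c, Sg (lin u v w c)) u hu v hv w hw
        refine h.fpf hj hK hn d hk ?_
        rw [map_lin]
        exact ((cu k (l (m hk))).pow_right _).mul_right
          (((cv k (m hk)).pow_right _).mul_right ((cw k hk).pow_right _))

end Ab

end Cfsg.Agent.Co2L.Jb
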