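import Cfsg.Agent.Co2L.JB2

/-!
Reflections on the Thompson subgroup `3^4`.
-/

set_option autoImplicit false
set_option maxRecDepth 100000
set_option synthInstance.maxHeartbeats 400000
set_option synthInstance.maxSize 4000

namespace Cfsg.Agent.Co2L.Jb

open Subgroup Cfsg Cfsg.Agent.Comp Cfsg.Agent.X32.TG Cfsg.Agent.PLocal.Amb
open Cfsg.Agent.Loc3 Cfsg.Agent.Loc3.Pr
open Cfsg.Agent.X32 (TG Tab sub Mem lk)
open Cfsg.Agent.PS4 (cjm pow3)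

variable {G : Type*} [Group G] {y : W →* G} {Φ : ST →* G} {m σ s : G}

noncomputable abbrev fs : W → W := l4 (e 1) (e 3) (e 9) (e 54)

theorem Act4.act {n : G} {f : W → W} {h : H} (a : Act4 y n f) (c : ∀ v, f (iv v) = iv (ac h v)) :
    Act (y.comp iv) n h := fun v => a.cj (c v)

theorem dih {r s : G} (r2 : r * r = 1) (s2 : s * s = 1) (h : (r * s * (r * s)) ^ 3 = 1) :
    Commute ((r * s * (r * s))⁻¹ * r * (r * s * (r * s))⁻¹⁻¹) s := by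
  have i := Inv.conj_mul_eq_inv_right r2 s2
  have e : (r * s * (r * s))⁻¹ * r * (r * s * (r * s))⁻¹⁻¹ = s⁻¹ * (r * s) ^ 3 := by
    calc _ = s⁻¹ * ((s * (r * s) * s⁻¹)⁻¹ * (r * s * (r * s))) := by group
      _ = _ := by rw [i, inv_inv, pow_three]
  rw [e]
  refine (Commute.refl s).inv_left.mul_left (comm_of_conj ?_).symm
  rw [← conj_pow, i, inv_pow, inv_eq_iff_mul_eq_one, ← h, ← pow_two, ← pow_two, ← pow_mul, ← pow_mul]

/-- the setting with involutions -/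
structure Ac (y : W →* G) (Φ : ST →* G) (m σ s : G) : Prop extends Ab y Φ where
  hj : Fu (y (e 13)) (y (e 17))
  am : Act4 y m fμ
  aσ : Act4 y σ fσ
  as : Act4 y s fs
  s2 : s * s = 1
  inv : ∃ w, Commute w (y (e 13)) ∧ w * y (e 17) * w⁻¹ * y (e 17) ∈ QT.map Φ

namespace Ac
variable (h : Ac y Φ m σ s) [Finite G]
include h

theorem sgT {n : G} {T : W →* W} (k : Act4 y n T) {p q r s : W} {l : List W}
    (a : ∀ c ∈ l, Sg (l4 p q r s c)) : ∀ c ∈ l, Sg (l4 (T p) (T q) (T r) (T s) c) :=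
  fun c hc => map_l4 T .. ▸ h.sg h.hj (Fu.of (k _)) (a c hc)

theorem l1 {b : W} {f : W → W} (c : L1 b f) {g : G} {T : W → W} (k : Act4 y g T)
    (d : T (e 27) = b ∨ T (e 27) = b⁻¹) : Act4 y (g * s * g⁻¹) f := by
  obtain ⟨U, k'⟩ := exists_act h.iy k.norm
  obtain rfl : T = U := funext fun v => h.iy ((k v).symm.trans (k' v))
  obtain ⟨R, a⟩ := exists_act h.iy (mul_mem (mul_mem k.norm h.as.norm) (inv_mem k.norm))
  have e1 : ∀ v, R (U v) = U (fs v) := fun v => h.iy (by rw [← a, ← k, ← k, ← h.as]; group)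
  have e2 : ∀ u, u⁻¹ * R u ∈ [1, b, b⁻¹] := fun u => by
    obtain ⟨v, rfl⟩ := k.surj h.iy u
    rw [e1, ← map_inv, ← map_mul]
    exact mem3 d ((bd! : ∀ v, v⁻¹ * fs v ∈ [1, e 27, (e 27)⁻¹]) v)
  have := c _ (e2 (e 1)) _ (e2 (e 3)) _ (e2 (e 9)) _ (e2 (e 27))
  simp only [mul_inv_cancel_left, ← hom_eq4] at this
  refine a.cong (this ?_ fun v => h.sg h.hj (Fu.of (a v)))
  have := e1 (e 27)
  rw [(bd! : fs (e 27) = (e 27)⁻¹), map_inv] at this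
  rcases d with d | d <;> rw [d] at this
  exacts [this, inv_injective (map_inv R b ▸ this)]

theorem r9 : ∃ r, Act4 y r f9 := by
  obtain ⟨n, T, k, d⟩ := h.fus h.hj
  obtain ⟨b, p, a⟩ : ∃ b, ¬ Pz b ∧ Fu (y (e 27)) (y b) := by
    rcases (bd! : ∀ A ∈ [e 17, (e 17)⁻¹], ∀ D, ¬ Pz D ∨ ¬ Pz (D * A)) (T (e 13)) (by simpa using d)
      (T (e 27)) with p | p
    · exact ⟨_, p, Fu.of (k _)⟩
    · exact ⟨_, p, (Fu.of ((h.act (e 243)).cj bd!)).trans (map_mul T .. ▸ Fu.of (k _))⟩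
  rcases ((bd! : ∀ b, ¬ Pz b → Sg b ∨ nm b = nm (e 9) ∨ nm b = nm (e 4)) b p).resolve_left
    fun c => absurd (h.sg h.hj a.symm c) bd! with c | c <;>
    obtain ⟨g, U, k, d⟩ := h.fus (a.trans (h.orb p bd! c))
  · exact ⟨_, h.l1 t_l9 k d⟩
  · exact ⟨_, ((h.act (e 567)).mul ((h.l1 t_l4 k d).mul (h.act (e 81)))).conj h.iy h.am bd!⟩

theorem eps0 : ∃ g, Act4 y (g * s * g⁻¹) f9 ∧ g * y (e 9) * g⁻¹ = y (e 5) ∧
    ∃ u, g * y (iv u) * g⁻¹ = y (e 4) := by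
  obtain ⟨w, c, d⟩ := h.inv
  obtain ⟨T, k⟩ := exists_act h.iy (h.wc w (cj_le_of_mem_normalizer h.JS (h.nS c
    ((mul_mem_cancel_right (h.JS ⟨_, rfl⟩)).1 (map_le_range Φ _ d)))))
  obtain ⟨r, a⟩ := h.r9
  have e1 : T (e 13) = e 13 := h.iy ((k _).symm.trans (conj_of_comm c))
  have key : ∀ {g F}, Act4 y g F → Eps F (l4 (e 13) (T (e 17)) (T (e 28)) (T (e 30))) →
      ∃ g, Act4 y (g * s * g⁻¹) f9 ∧ g * y (e 9) * g⁻¹ = y (e 5) ∧
        ∃ u, g * y (iv u) * g⁻¹ = y (e 4) := fun {g F} b ⟨p, q, u, hu, f⟩ => by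
    rw [← e1, ← map_l4] at p q f
    rw [(bd! : l4 (e 13) (e 17) (e 28) (e 30) (e 77) = (e 27 : W))] at p
    rw [(bd! : l4 (e 13) (e 17) (e 28) (e 30) (e 8) = (e 9 : W))] at q
    obtain ⟨v, hv⟩ := (bd! : ∀ u ∈ (es [68, 50] : List W), ∃ v,
      l4 (e 13) (e 17) (e 28) (e 30) u = iv v) u hu
    exact ⟨_, h.l1 t_l9 (b.mul k) (by simpa using p), (b.mul k).cj q, v, (b.mul k).cj (hv ▸ f)⟩
  obtain ⟨t, -, f | f⟩ := t_eps _ (h.sg h.hj (Fu.of (k (e 17))) bd!)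
    (h.mQ.1 (by rwa [map_mul, ← k])) _ (h.sg h.hj (Fu.of (k (e 28))) bd!) _
    (h.sg h.hj (Fu.of (k (e 30))) bd!) (e1 ▸ h.sgT k bd!)
  exacts [key ((h.act _).mul (a.mul (h.act t))) f,
    key ((h.act _).mul (a.mul (h.aσ.mul (h.act t)))) f]

theorem eps : ∃ g, Commute (g * s * g⁻¹) s ∧ Act4 y (g * s * g⁻¹) f9 ∧
    g * y (e 9) * g⁻¹ = y (e 5) ∧ ∃ u, g * y (iv u) * g⁻¹ = y (e 4) := by
  obtain ⟨g, a, b, u, c⟩ := h.eps0
  obtain ⟨v, d⟩ := h.cJ (g := g * s * g⁻¹ * s * (g * s * g⁻¹ * s)) fun w => comm_of_conj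
    (((a.mul h.as).mul (a.mul h.as)).cj ((bd! : ∀ w, f9 (fs (f9 (fs w))) = w) w))
  have k : Act4 y (y v)⁻¹ id := fun w => conj_of_comm (ycomm y v w).inv_left
  have f : (y v)⁻¹ * g * s * ((y v)⁻¹ * g)⁻¹ = (y v)⁻¹ * (g * s * g⁻¹) * (y v)⁻¹⁻¹ := by group
  refine ⟨(y v)⁻¹ * g, ?_, f ▸ k.conj h.iy a fun _ => rfl, ?_, u, ?_⟩
  · rw [f, d]; exact dih (X32.conj_sq h.s2) h.s2 (d ▸ ycube y v)
  · exact Eq.trans (by rw [← b]; group) (k (e 5))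
  · exact Eq.trans (by rw [← c]; group) (k (e 4))

theorem mon {n : G} (hn : n ∈ 𝐍[(y.comp iv).range]) : ∃ k, Act (y.comp iv) n k := by
  obtain ⟨A, hA⟩ := conj_mem_of_mem_normalizer hn (⟨e 1, rfl⟩ : _ ∈ (y.comp iv).range)
  obtain ⟨B, hB⟩ := conj_mem_of_mem_normalizer hn (⟨e 3, rfl⟩ : _ ∈ (y.comp iv).range)
  obtain ⟨C, hC⟩ := conj_mem_of_mem_normalizer hn (⟨e 9, rfl⟩ : _ ∈ (y.comp iv).range)
  have l : ∀ v, n * y (iv v) * n⁻¹ = (y.comp iv) (lin A B C v) := fun v => by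
    rw [map_lin, hA, hB, hC]
    exact hom_eq ((MulAut.conj n).toMonoidHom.comp (y.comp iv)) v
  rcases t_mon A B C fun p hp => h.sg h.hj (Fu.of (l p))
    ((bd! : ∀ p ∈ (es [13, 14, 16, 22] : List V), Sg (iv p)) p hp) with ⟨v, v1, c⟩ | ⟨k, rfl, rfl, rfl⟩
  · have := l v
    rw [c, map_one, conj_eq_one_iff, ← map_one y] at this
    exact absurd ((bd! : ∀ v, iv v = 1 → v = 1) v (h.iy this)) v1
  · exact ⟨k, Act.of_three hA.symm hB.symm hC.symm⟩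

theorem ext0 {g : G} (c1 : Commute g (y (e 1))) (c3 : Commute g (y (e 3))) : g ∈ 𝐍[y.range] := by
  obtain ⟨X, _, _, π, q⟩ := exists_CQ (y (e 1))
  have c := fun w => ycomm y w (e 1)
  let x : V →* X := MonoidHom.mk' (fun v => π (y (ka v))) fun v w => by
    rw [map_mul, map_mul, q.mul (c _) (c _)]
  have hx : ∀ v, x v = π (y (ka v)) := fun _ => rfl
  have rx : x.range = q.im y.range := le_antisymm
    (by rintro _ ⟨v, rfl⟩; exact q.mem_im_of ⟨_, rfl⟩ (c _)) fun p hp => by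
      obtain ⟨_, ⟨w, rfl⟩, -, rfl⟩ := q.mem_im.1 hp
      obtain ⟨v, a⟩ := (bd! : ∀ w, ∃ v, w⁻¹ * ka v ∈ [1, e 1, (e 1)⁻¹]) w
      exact ⟨v, (q.eq_iff (c _) (c _)).2 (by rw [← map_inv, ← map_mul]; exact h.zp.2 a)⟩
  have nm : ∀ g, Commute g (y (e 1)) → π g ∈ 𝐍[x.range] → g ∈ 𝐍[y.range] := fun g a b =>
    mem_normalizer_fintype (by
      rintro _ ⟨w, rfl⟩
      refine q.mem_of_mem_im (H := y.range) ⟨_, rfl⟩ ((a.mul_left (c w)).mul_left a.inv_left) ?_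
      rw [q.map_conj a (c w), ← rx]
      exact conj_mem_of_mem_normalizer b (rx ▸ q.mem_im_of ⟨_, rfl⟩ (c w)))
  have key : ∀ g, Commute g (y (e 1)) → π g ∈ 𝐍[x.range] →
      ∃ k, Act (y.comp ka) g k ∧ Act x (π g) k := fun g a b => by
    obtain ⟨T, k⟩ := exists_act h.iy (nm g a b)
    have e1 : T (e 1) = e 1 := h.iy ((k _).symm.trans (conj_of_comm a))
    obtain ⟨l, p, q', r⟩ := t_ext _ (h.sg h.hj (Fu.of (k (e 13))) bd!) _
      (h.sg h.hj (Fu.of (k (e 16))) bd!) _ (h.sg h.hj (Fu.of (k (e 28))) bd!) (e1 ▸ h.sgT k bd!)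
    rw [← e1, ← map_l4] at p q' r
    have d : Act (y.comp ka) g l := Act.of_three (k.cj ((congrArg T bd!).trans p))
      (k.cj ((congrArg T bd!).trans q')) (k.cj ((congrArg T bd!).trans r))
    exact ⟨l, d, fun v => by rw [hx, ← q.map_conj a (c _)]; exact congrArg π (d v)⟩
  have ix : Function.Injective x := (injective_iff_map_eq_one x).2 fun v a =>
    (bd! : ∀ v, ka v ∈ [1, e 1, (e 1)⁻¹] → v = 1) v (h.zp.1 ((q.ker (c _)).1 a))
  refine nm g c1 (MF.cent_le' (m := fun _ => True) ⟨ix, fun p a => ?_, fun p a => ?_,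
    rx ▸ q.sig (ycube y _) (fun a => absurd (h.iy (a.trans (map_one y).symm)) bd!)
      (by rintro _ ⟨w, rfl⟩; exact c w) (h.sig h.hj)⟩ (fun _ _ => trivial) (j := e 8) bd! ?_)
  · obtain ⟨p, b, rfl⟩ := q.surj p
    obtain ⟨k, d, f⟩ := key p b (Act.of_comm a).norm
    refine rx ▸ q.mem_im_of (h.cJ fun w => ?_) b
    obtain ⟨v, i, -, rfl⟩ := (bd! : ∀ w, ∃ v, ∃ i ∈ [0, 1, 2], w = ka v * e 1 ^ i) w
    rw [map_mul, map_pow]
    exact (d.comm (f.fix ix (a v))).mul_right (b.pow_right i)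
  · obtain ⟨p, b, rfl⟩ := q.surj p
    exact (key p b a).imp fun _ d => d.2
  · rw [hx, (bd! : ka (e 8) = e 3)]
    change _ = _
    rw [← q.mul c1 (c _), ← q.mul (c _) c1, c3.eq]

theorem cs_s (v : V) : Commute s (y (iv v)) :=
  comm_of_conj (h.as.cj ((bd! : ∀ v, fs (iv v) = iv v) v))

theorem ext {g : G} (c1 : Commute g (y (e 1))) (c3 : Commute g (y (e 3))) (c : Commute g s) :
    g ∈ 𝐍[(y.comp iv).range] := mem_normalizer_fintype (by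
  rintro _ ⟨v, rfl⟩
  obtain ⟨w, a⟩ := conj_mem_of_mem_normalizer (h.ext0 c1 c3) ⟨iv v, rfl⟩
  refine ⟨cs w, (congrArg y ((bd! : ∀ w, fs w = w → iv (cs w) = w) w (h.iy ?_))).trans a⟩
  rw [← h.as, a]
  exact conj_of_comm ((c.symm.mul_right (h.cs_s v)).mul_right c.symm.inv_right))

end Ac

end Cfsg.Agent.Co2L.Jb
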