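import Cfsg.Agent.Co2L.HD

/-!
The action on the Thompson subgroup (definitions).
-/

set_option autoImplicit false

namespace Cfsg.Agent.Co2L

open Subgroup Cfsg Cfsg.Agent.Comp Cfsg.Agent.X32.TG Cfsg.Agent.PLocal.Amb
open Cfsg.Agent.Loc3 Cfsg.Agent.Loc3.Pr
open Cfsg.Agent.X32 (TG Tab sub Mem)
open Cfsg.Agent.PS4 (K2 J2 S2 Q2 cjm pow3)

variable {G : Type*} [Group G]

/-- `x = φ.comp fr` is the frame of `J₀ = C_J(s)`, `s = m φ(e 189) m⁻¹`, `J = J₀ × <m φ(e 3) m⁻¹>`. -/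
structure JB (φ : K2 →* G) (m : G) : Prop extends HA φ m where
  mon : ∀ n ∈ 𝐍[(φ.comp fr).range], ∃ h, Act (φ.comp fr) n h
  full : ∀ h, ∃ n, Commute n (m * φ (e 189) * m⁻¹) ∧ Act (φ.comp fr) n h
  ext : ∀ g, Commute g ((φ.comp fr) (e 1)) → Commute g ((φ.comp fr) (e 3)) →
    Commute g (m * φ (e 189) * m⁻¹) → g ∈ 𝐍[(φ.comp fr).range]
  sig : Sig ((φ.comp fr).range ⊔ zpowers (m * φ (e 3) * m⁻¹))
  eps : ∃ g u k, Commute (g * (m * φ (e 189) * m⁻¹) * g⁻¹) (m * φ (e 189) * m⁻¹) ∧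
    Act (φ.comp fr) (g * (m * φ (e 189) * m⁻¹) * g⁻¹) (e 24) ∧
    g * (φ.comp fr) u * g⁻¹ = (φ.comp fr) (e 4) ∧
    g * (φ.comp fr) (ac k (e 9)) * g⁻¹ = (φ.comp fr) (e 5)

end Cfsg.Agent.Co2L
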