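import Cfsg.Agent.Loc3.PrA

/-!
Involutions in the groups of Prince's theorem with full automiser.
-/

set_option autoImplicit false
set_option maxRecDepth 100000
set_option synthInstance.maxHeartbeats 400000
set_option synthInstance.maxSize 4000

namespace Cfsg.Agent.Co2L

open Subgroup Cfsg Cfsg.Agent.Comp Cfsg.Agent.X32.TG Cfsg.Agent.PLocal.Amb Cfsg.Agent.LES
open Cfsg.Agent.Loc3 Cfsg.Agent.Loc3.Pr
open Cfsg.Agent.X32 (TG Tab)
open Cfsg.Agent.Comp.BN hiding allL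
open Cfsg.Agent.PS4 (K2 J2 S2 Q2 cjm pow3)
open Equiv (Perm swap)

variable {G : Type*} [Group G] [Finite G]

theorem inv_trick {O : Subgroup G} (hO : IsPGroup 2 O) {y o n : G} (y3 : y ^ 3 = 1)
    (yN : y ∈ 𝐍[O]) (ho : o ∈ O) (hn : n * y * n⁻¹ = y⁻¹) (i2 : o * n * (o * n) = 1) :
    ∃ k, k * (o * n) * k⁻¹ * y * (k * (o * n) * k⁻¹)⁻¹ = y⁻¹ := by
  have := Fact.mk Nat.prime_two
  by_cases y1 : y = 1
  · exact ⟨1, by simp [y1]⟩
  have o1 : o * (y⁻¹ * o⁻¹ * y) ∈ O := mul_mem ho (inv_conj_mem_of_mem_normalizer yN (inv_mem ho))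
  have ec : o * n * y * (o * n)⁻¹ * y⁻¹ = o * (y⁻¹ * o⁻¹ * y) * y := by
    rw [show o * n * y * (o * n)⁻¹ = o * (n * y * n⁻¹) * o⁻¹ by group, hn,
      show o * (y⁻¹ * o⁻¹ * y) * y = o * y⁻¹ * o⁻¹ * (y * y) by group, ← inv_eq_sq y3]
  have ic : o * n * (o * (y⁻¹ * o⁻¹ * y) * y) * (o * n)⁻¹ = (o * (y⁻¹ * o⁻¹ * y) * y)⁻¹ := by
    rw [← ec]
    generalize o * n = i at i2
    rw [show i * (i * y * i⁻¹ * y⁻¹) * i⁻¹ = i * i * y * i⁻¹ * y⁻¹ * i⁻¹ by group, i2,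
      inv_eq_of_mul_eq_one_right i2]
    simp [inv_eq_of_mul_eq_one_right i2, mul_assoc]
  generalize o * (y⁻¹ * o⁻¹ * y) = a at o1 ic
  have m3 := pow_mul_mem o1 yN 3
  rw [y3, inv_one, mul_one] at m3
  obtain ⟨k, hk⟩ := isPGroup_iff.1 hO _ m3
  have m4 := pow_mul_mem o1 yN (4 ^ k)
  have y4 : y ^ 4 ^ k = y := by
    rw [pow_eq_pow_mod _ y3, Nat.pow_mod]; simp
  rw [y4] at m4
  have mem : (a * y) ^ 4 ^ k ∈ zpowers y ⊔ O := by
    simpa using mul_mem (mem_sup_right m4 : _ ∈ zpowers y ⊔ O) (mem_sup_left (mem_zpowers y))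
  obtain ⟨g, -, hg⟩ := conj_of_not_nine (C := zpowers y ⊔ O) (fun a => by
      obtain ⟨m, hm⟩ := hO.exists_card_eq
      have := a.trans (Grp.card_sup_dvd_of_le_normalizer (zpowers_le.2 yN))
      rw [Nat.card_zpowers, orderOf_three y3 y1, hm] at this
      exact absurd (Nat.prime_three.dvd_of_dvd_pow
        (Nat.dvd_of_mul_dvd_mul_left (k := 3) (by norm_num) this)) (by norm_num))
    mem (mem_sup_left (mem_zpowers y)) (by
      rw [← pow_mul, show 4 ^ k * 3 = 3 * 2 ^ k * 2 ^ k by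
        rw [show 4 = 2 * 2 from rfl, mul_pow]; ring, pow_mul, pow_mul, hk, one_pow])
    (fun e => y1 (not_mem2 hO (by simpa [e] using m4) y3)) y3 y1
  have e1 : g * (o * n) * g⁻¹ * (g * (a * y) ^ 4 ^ k * g⁻¹) * (g * (o * n) * g⁻¹)⁻¹ =
      (g * (a * y) ^ 4 ^ k * g⁻¹)⁻¹ := by rw [conj_conj_aux, ← conj_pow, ic, inv_pow, conj_inv']
  refine ⟨g, ?_⟩
  rcases hg with hg | hg <;> rw [hg] at e1
  exacts [e1, by rwa [conj_inv', inv_inj] at e1]

variable {φ : K2 →* G} {ν t : G}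

theorem norm_of_inv {x : V →* G} (h : MF x) {v : V} (hv : ∀ k : H, ac k v = v → k ^ 3 = 1 → k = 1)
    (hc : ∀ g, Commute g (x v) → g ∈ 𝐍[x.range]) {i : G} (hi : i * x v * i⁻¹ = (x v)⁻¹) :
    i ∈ 𝐍[x.range] := by
  refine mem_normalizer_fintype ?_
  rintro _ ⟨u, rfl⟩
  have c : Commute (i * x u * i⁻¹) (x v) := by
    rw [← Commute.inv_right_iff, ← hi]; exact Commute.cj (xcomm x u v) i
  obtain ⟨k, a⟩ := h.mon _ (hc _ c)
  refine h.mem_of_act (a.cong (hv k (a.fix h.inj c) ((a.pow 3).eq h.inj ?_)))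
  rw [conj_pow, xcube]; simpa using Act.one

theorem conj_J (h : PS φ) {y : G} (y3 : y ^ 3 = 1) : ∃ g v, g * y * g⁻¹ = (φ.comp fr) v := by
  have := Fact.mk Nat.prime_three
  obtain ⟨g, -, a⟩ := h.syl.exists_cj_le (isPGroup_zpowers (x := y) ⟨1, by simpa⟩) le_top
  obtain ⟨k, hk, e1⟩ := a (conj_mem_cj g (mem_zpowers y))
  obtain ⟨d, -, v, e2⟩ := (bd! : ∀ k ∈ S2, k ^ 3 = 1 → ∃ d ∈ (es [0, 27, 81, 216] : List K2),
    ∃ v, fr v = d * k * d⁻¹) k hk (h.inj (by rw [map_pow, e1, conj_pow, y3]; simp))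
  refine ⟨φ d * g, v, ?_⟩
  rw [MonoidHom.comp_apply, e2, ← cjm φ rfl, e1]; group

theorem invN_of (h : B2 φ ν t) (h9 : ∀ i, i * i = 1 → Commute i ((φ.comp fr) (e 9)) →
    ∃ g, g * i * g⁻¹ ∈ 𝐍[(φ.comp fr).range]) {i y : G} (i2 : i * i = 1) (y3 : y ^ 3 = 1) (y1 : y ≠ 1)
    (c : Commute y i) : ∃ g, g * i * g⁻¹ ∈ 𝐍[(φ.comp fr).range] := by
  obtain ⟨g, v, a⟩ := conj_J h.toPS y3
  have c' := a ▸ Commute.cj c.symm g
  have tr : ∀ {k : H} {u : V}, P24 k → (ac k u = v) → (∀ i, i * i = 1 →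
      Commute i ((φ.comp fr) u) → ∃ g, g * i * g⁻¹ ∈ 𝐍[(φ.comp fr).range]) →
      ∃ g, g * i * g⁻¹ ∈ 𝐍[(φ.comp fr).range] := fun {k u} p b f => by
    obtain ⟨m, -, d⟩ := h.gam le_top p
    obtain ⟨l, hl⟩ := f (m⁻¹ * (g * i * g⁻¹) * m⁻¹⁻¹) (X32.conj_sq (X32.conj_sq i2)) (by
      rw [← d.cj b, ← Commute.symm_iff, comm_conj_iff] at c'
      simpa using c'.symm)
    exact ⟨l * m⁻¹ * g, by simpa [mul_assoc] using hl⟩
  have h13 : ∀ i, i * i = 1 → Commute i ((φ.comp fr) (e 13)) →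
      ∃ g, g * i * g⁻¹ ∈ 𝐍[(φ.comp fr).range] := fun i i2 c => by
    obtain ⟨k, rfl⟩ := h.cu i (xe φ 13 1 bd! ▸ c)
    obtain ⟨l, -, b⟩ := (bd! : ∀ k : K2, k * k = 1 → ∃ l ∈ Q2, l * k * l⁻¹ = 1 ∨ l * k * l⁻¹ = e 189)
      k (h.inj (by rw [map_mul, i2, map_one]))
    refine ⟨φ l, ?_⟩
    rcases b with b | b <;> rw [cjm φ b]
    exacts [by simp, h.sf.as.norm]
  rcases (dg48 v).resolve_left (fun b => y1 (by simpa [b] using a)) with ⟨k, d, f | f | f⟩ | d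
  · exact tr d f h13
  · refine tr d f fun i i2 c => h13 i i2 ?_
    rwa [(bd! : (e 26 : V) = (e 13)⁻¹), map_inv, Commute.inv_right_iff] at c
  · exact tr d f h9
  · exact ⟨g, h.mf.cent_le' (fun _ _ => trivial) d c'⟩

theorem syl2 (h : B2 φ ν t) {O : Subgroup G} (c : Core (φ.comp fr) (φ (e 189)) O)
    (hz : ∀ g, Commute g ((φ.comp fr) (e 9)) → g ∈ 𝐍[(φ.comp fr).range]) :
    ∃ T, IsSyl 2 T ⊤ ∧ T ≤ centralizer {φ (e 189)} := by
  have := Fact.mk Nat.prime_two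
  have q := h.toPS.qO c
  obtain ⟨T, hT, OT⟩ := exists_isSyl_ge c.two (L := centralizer {φ (e 189)})
    fun o ho => mem_cent.2 (c.le o ho)
  exact ⟨T, isSyl_of_isSyl_normalizer (hT.mono (le_inf le_top le_normalizer)
    fun n hn => mem_cent.2 (comm_of_conj (by
      have a := conj_mem_of_mem_normalizer hn.2 (OT q)
      obtain ⟨k, b⟩ := isPGroup_iff.1 hT.pgrp _ a
      have d := h.sf.sq_mem c (mem_cent.1 (hT.le a)) b
      rw [conj_mul, ← map_mul, (bd! : (e 27 * e 27 : K2) = e 189)] at d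
      refine (h.le_zp c (K := O ⊓ 𝐂[O]) inf_le_left (fun g a => le_normalizer_inf le_rfl
        (normalizer_le_normalizer_centralizer O) (c.nrm g a))
        (fun k a b => h.sf.core_mem c.two c.le c.nrm a.1 (hz k b)) (fun l a b => ?_)
        ⟨d, fun p hp => (comm_conj_iff.2 (mem_cent.1 (hT.le (inv_conj_mem_of_mem_normalizer hn.2
          (OT hp)))).symm).symm.eq⟩).resolve_left fun e => h.sf.s1 (conj_eq_one_iff.1 e)
      exact (bd! : ∀ l ∈ Q8, Commute (e 27) l → Commute (e 135 * e 27 * (e 135)⁻¹) l →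
        l = 1 ∨ l = e 189) l a (Commute.of_map h.inj (b.2 _ q)) (Commute.of_map h.inj (b.2 _
          (cjm φ rfl ▸ conj_mem_of_mem_normalizer (c.nrm _ (Commute.map bd! φ)) q)))))), hT.le⟩

theorem plus (h : B2 φ ν t) : (∀ i : G, i * i = 1 → ∃ g, g * i * g⁻¹ ∈ 𝐍[(φ.comp fr).range]) ∧
    (Nonempty (G ≃* S62) ∨ ∀ g, Commute g ((φ.comp fr) (e 9)) → g ∈ 𝐍[(φ.comp fr).range]) := by
  have := Fact.mk Nat.prime_two
  rcases h.sn.split with hz | ⟨ψ, k⟩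
  · refine ⟨fun i i2 => ?_, Or.inr hz⟩
    obtain ⟨O, c⟩ := h.core (locG_of h.sf.s2 (h.sf.cs bd!).symm hz)
    have h1 := h.main c
    obtain ⟨T, hT, le⟩ := syl2 h c hz
    obtain ⟨g, -, a⟩ := hT.exists_cj_le (isPGroup_zpowers (x := i) ⟨1, by simpa [pow_two]⟩) le_top
    have ci := mem_cent.1 (le (a (conj_mem_cj g (mem_zpowers i))))
    have j2 : g * i * g⁻¹ * (g * i * g⁻¹) = 1 := X32.conj_sq i2
    suffices ∃ l, l * (g * i * g⁻¹) * l⁻¹ ∈ 𝐍[(φ.comp fr).range] by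
      obtain ⟨l, hl⟩ := this
      exact ⟨l * g, by simpa [mul_assoc] using hl⟩
    generalize g * i * g⁻¹ = i at ci j2
    obtain ⟨o, ho, n, hn, rfl⟩ := c.fac i ci
    have cn : Commute n (φ (e 189)) := by simpa using (c.le o ho).inv_left.mul_left ci
    obtain ⟨k, a⟩ := h.mf.mon n hn
    rcases (bd! : ∀ k : H, Commute k (e 3) → P24 k ∨ ac k (e 9) = (e 9)⁻¹) k (h.sf.comm_act a cn)
      with b | b
    · have sM := gx_mem φ ν (e 189)
      have lo : ∀ o ∈ O, o ∈ 𝐍[(φ.comp fr).range] → o ∈ gen (gx φ ν) := fun o ho a => by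
        rcases h.sf.core_mem c.two c.le c.nrm ho a with rfl | rfl
        exacts [one_mem _, sM]
      have OM : O ≤ gen (gx φ ν) := h.sf.le_of c c.two (fun v a => c.nrm _ (h.sf.cs a))
        fun o ho v hv a => by
          simp only [es, List.map, List.mem_cons, List.not_mem_nil, or_false] at hv
          rcases hv with rfl | rfl | rfl | rfl
          exacts [lo o ho (h.sf.cu a), lo o ho (hz o a), h.cent_a le_rfl (k := 1) bd! (Or.inl bd!) o a,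
            h.cent_a le_rfl (k := e 18) bd! (Or.inr bd!) o a]
      obtain ⟨z, -, z3, z1, d⟩ := h1.f1 (mul_mem (OM ho) (h.mf.le_of_gam (by
        rintro _ ⟨v, rfl⟩; exact gx_mem φ ν _) a (h.gam le_rfl b))) j2
      exact invN_of h (fun i _ c => ⟨1, by simpa using hz i c⟩) j2 z3 z1 d
    · obtain ⟨l, hl⟩ := inv_trick c.two (xcube _ (e 9)) (c.nrm _ (h.sf.cs bd!)) ho (a.inverts b) j2
      exact ⟨l, norm_of_inv h.mf bd! hz hl⟩
  obtain ⟨f⟩ := h.caseS k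
  refine ⟨fun i i2 => ?_, Or.inl ⟨f⟩⟩
  obtain ⟨z, z3, z1, c⟩ := inv62 (f i) (by rw [← map_mul, i2, map_one])
  refine invN_of h (fun i i2 c => ?_) i2 (y := f.symm z) (by rw [← map_pow, z3, map_one])
    (by simpa using z1) (by simpa using c.map f.symm)
  obtain ⟨τ, rfl⟩ := k.mem2 c (k := 1) (by simpa [pow_two])
  obtain ⟨T, hT, b⟩ := s6_rep τ (k.inψ (by rw [map_mul, i2, map_one]))
  obtain ⟨U, hU, d⟩ := (pd! : ∀ T ∈ ([1, swap 0 1, swap 0 1 * swap 2 3,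
    swap 0 1 * swap 2 3 * swap 4 5] : List (Perm (Fin 6))), ∃ U ∈ ([1, swap 1 2, swap 1 2 * swap 3 4,
      swap 0 5 * swap 1 4 * swap 2 3] : List (Perm (Fin 6))), IsConj T U) T hT
  obtain ⟨u, rfl⟩ := isConj_iff.1 (b.trans d)
  refine ⟨ψ u, ?_⟩
  rw [cjm ψ rfl]
  simp only [List.mem_cons, List.not_mem_nil, or_false] at hU
  rcases hU with b | b | b | b <;> rw [b]
  exacts [by simp, k.f1 ▸ k.a1.norm, k.fn ▸ k.n1.norm, k.fs ▸ k.as.norm]

end Cfsg.Agent.Co2L
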