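import Cfsg.Agent.Co2L.Plus

/-!
A monomial frame with a four-group centralising the extraspecial subgroup.
-/

set_option autoImplicit false
set_option maxRecDepth 100000
set_option synthInstance.maxHeartbeats 400000
set_option synthInstance.maxSize 4000

namespace Cfsg.Agent.Co2L

open Subgroup Cfsg Cfsg.Agent.Comp Cfsg.Agent.X32.TG Cfsg.Agent.PLocal.Amb
open Cfsg.Agent.Loc3 Cfsg.Agent.Loc3.Pr
open Cfsg.Agent.X32 (TG Tab sub Mem)
open Cfsg.Agent.PS4 (K2 J2 S2 Q2 cjm pow3)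

variable {G : Type*} [Group G]

theorem cj_pow {g y : G} {n : ℕ} (h : y ^ n = 1) : (g * y * g⁻¹) ^ n = 1 := by
  rw [conj_pow, h, mul_one, mul_inv_cancel]

theorem comm_of_sq {a b : G} (ha : a * a = 1) (hb : b * b = 1) (h : a * b * (a * b) = 1) :
    Commute a b := by
  change a * b = b * a
  rw [eq_inv_of_mul_eq_one_left h, mul_inv_rev, inv_eq_of_mul_eq_one_right ha,
    inv_eq_of_mul_eq_one_right hb]

/-- no elements of order three -/
def N3 (E : Subgroup G) : Prop := ∀ o ∈ E, o ^ 3 = 1 → o = 1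

theorem N3.two {E : Subgroup G} (h : IsPGroup 2 E) : N3 E := fun _ => not_mem2 h

theorem N3.cop {E : Subgroup G} (h : (Nat.card E).Coprime 3) : N3 E := fun _ a b =>
  orderOf_eq_one_iff.1 (Nat.eq_one_of_dvd_coprimes h (E.orderOf_dvd_natCard a)
    (orderOf_dvd_of_pow_eq_one b))

theorem cop_one {E : Subgroup G} (hE : N3 E) {o d : G} (ho : o ∈ E) (hd : d ∈ 𝐍[E])
    (d3 : d ^ 3 = 1) {m : ℕ} (hm : m.Coprime 3) (h : (o * d) ^ m = 1) : d = 1 := by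
  have a := pow_mul_mem ho hd m
  rw [h, one_mul, inv_mem_iff] at a
  exact orderOf_eq_one_iff.1 (Nat.eq_one_of_dvd_coprimes hm (orderOf_dvd_of_pow_eq_one
    (hE _ a (by rw [← pow_mul, mul_comm, pow_mul, d3, one_pow]))) (orderOf_dvd_of_pow_eq_one d3))

theorem cmod {E : Subgroup G} {o n a : G} (ho : o ∈ E) (ha : n * a * n⁻¹ ∈ 𝐍[E]) :
    ∃ o' ∈ E, o * n * a * (o * n)⁻¹ * a⁻¹ = o' * (n * a * n⁻¹ * a⁻¹) :=
  ⟨_, mul_mem ho (conj_mem_of_mem_normalizer ha (inv_mem ho)), by group⟩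

theorem burn_fus [Finite G] {p : ℕ} [Fact p.Prime] {S J : Subgroup G} (hS : IsSyl p S ⊤) (JS : J ≤ S)
    (wc : ∀ g, cj(g, J) ≤ S → g ∈ 𝐍[J]) {g a b : G} (ha : ∀ j ∈ J, Commute j a)
    (hb : ∀ j ∈ J, Commute j b) (ha' : ∀ j ∈ J, Commute j (g * a * g⁻¹))
    (hb' : ∀ j ∈ J, Commute j (g * b * g⁻¹)) :
    ∃ n ∈ 𝐍[J], n * a * n⁻¹ = g * a * g⁻¹ ∧ n * b * n⁻¹ = g * b * g⁻¹ := by
  have pJ := hS.pgrp.to_le JS
  obtain ⟨T, hT, le⟩ := exists_isSyl_ge pJ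
    (L := centralizer {g * a * g⁻¹} ⊓ centralizer {g * b * g⁻¹})
    fun j hj => ⟨mem_cent.2 (ha' j hj), mem_cent.2 (hb' j hj)⟩
  obtain ⟨c, hc, e1⟩ := hT.exists_cj_le (isPGroup_cj g pJ) (by
    rintro _ ⟨j, hj, rfl⟩
    exact ⟨mem_cent.2 (Commute.cj (ha j hj) g), mem_cent.2 (Commute.cj (hb j hj) g)⟩)
  obtain ⟨d, -, e2⟩ := hS.exists_cj_le hT.pgrp le_top
  have := (mul_mem_cancel_left (wc d ((cj_mono d le).trans e2))).1
    (wc (d * (c * g)) (by rw [cj_mul, cj_mul]; exact (cj_mono d e1).trans e2))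
  refine ⟨c * g, this, ?_, ?_⟩
  · rw [← conj_of_comm (mem_cent.1 hc.1)]; group
  · rw [← conj_of_comm (mem_cent.1 hc.2)]; group

noncomputable def pN (a v : ℕ) : ℕ := force a fun a => force v fun v => Nat.mod (Nat.add
  (Nat.mul (Nat.mod a 3) (Nat.mod v 3)) (Nat.add (Nat.mul (Nat.mod (Nat.div a 3) 3)
    (Nat.mod (Nat.div v 3) 3)) (Nat.mul (Nat.div a 9) (Nat.div v 9)))) 3

/-- orthogonality for the standard form -/
def perp (a v : V) : Prop := pN a.v v.v = 0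

instance bdPerp (a v : V) {m n : ℕ} [EV a m] [EV v n] : X32.BD (perp a v) (Nat.beq (pN m n) 0) :=
  ⟨by rw [← EV.h (a := a), ← EV.h (a := v)]; exact X32.BD.h (p := pN a.v v.v = 0)⟩

theorem perp_ac : ∀ h a v, perp (ac h a) (ac h v) ↔ perp a v := bd!

theorem perp_inv : ∀ a v, perp a v⁻¹ ↔ perp a v := bd!

noncomputable def M2 : Subgroup K2 :=
  sub (nat_lit 0x3fffffffffffffffffffe00000000000007fffffffffffffffffffffffffffffffff) bd!

instance memM2 (k : K2) {b : Bool} [X32.BD (Mem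
    (nat_lit 0x3fffffffffffffffffffe00000000000007fffffffffffffffffffffffffffffffff) k) b] :
    X32.BD (k ∈ M2) b := ⟨X32.BD.h (p := Mem _ k)⟩

/-- a monomial frame with full automiser -/
structure MF0 (x : V →* G) : Prop where
  inj : Function.Injective x
  cent : ∀ g, (∀ v, Commute g (x v)) → g ∈ x.range
  mon : ∀ n ∈ 𝐍[x.range], ∃ h, Act x n h
  full : ∀ h, ∃ n, Act x n h

/-- involutions centralising the perp of `v` -/
def IR (x : V →* G) (v : V) (g : G) : Prop := g * g = 1 ∧ ∀ a, perp a v → Commute g (x a)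

def RR (x : V →* G) (v : V) : Subgroup G := closure {g | IR x v g}

structure RP (x : V →* G) (v : V) : Prop where
  mem : ∀ g ∈ RR x v, IR x v g
  ne : ∃ r ∈ RR x v, r ≠ 1
  nrm : ∀ y, ¬ perp y v → ∀ r ∈ RR x v, r * (x y * r * (x y)⁻¹) * ((x y)⁻¹ * r * x y) = 1
  irr : ∀ y, ¬ perp y v → ∀ r ∈ RR x v, r ≠ 1 → ∀ r' ∈ RR x v,
    r' = 1 ∨ r' = r ∨ r' = x y * r * (x y)⁻¹ ∨ r' = (x y)⁻¹ * r * x y
  cen : ∀ g, (∀ a, perp a v → Commute g (x a)) → ∃ r ∈ RR x v, ∃ u, g = r * x u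
  fix : ∀ g y, ¬ perp y v → Commute g (x v) → Commute g (x y) → g ∈ 𝐍[x.range]

variable {x : V →* G}

theorem IR.act {v : V} {g n : G} {h : H} (a : IR x v g) (b : Act x n h) :
    IR x (ac h v) (n * g * n⁻¹) := ⟨X32.conj_sq a.1, fun u c => by
  obtain ⟨u, rfl⟩ : ∃ w, ac h w = u := ⟨ac h⁻¹ u, by rw [← ac_mul, mul_inv_cancel, ac_one]⟩
  exact b u ▸ Commute.cj (a.2 u ((perp_ac ..).1 c)) n⟩

theorem RR_inv (x : V →* G) (v : V) : RR x v⁻¹ = RR x v := by simp only [RR, IR, perp_inv]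

theorem RR_act {v : V} {g n : G} {h : H} (b : Act x n h) (a : g ∈ RR x v) :
    n * g * n⁻¹ ∈ RR x (ac h v) := by
  induction a using closure_induction with
  | mem g a => exact subset_closure (IR.act a b)
  | one => simp
  | mul g k _ _ a c => rw [← conj_mul]; exact mul_mem a c
  | inv g _ a => exact conj_inv' n g ▸ inv_mem a

theorem RR_act' {v : V} {g n : G} {h : H} (b : Act x n h) (a : g ∈ RR x (ac h v)) :
    ∃ r ∈ RR x v, n * r * n⁻¹ = g :=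
  ⟨n⁻¹ * g * n⁻¹⁻¹, by simpa [← ac_mul, ac_one] using RR_act b.inv a, by group⟩

theorem RR_norm [Finite G] {v : V} {n : G} {h : H} (b : Act x n h) (a : ac h v = v ∨ ac h v = v⁻¹) :
    n ∈ 𝐍[RR x v] := mem_normalizer_fintype fun g c => by
  have := RR_act b c
  rcases a with a | a <;> rw [a] at this
  exacts [this, RR_inv x v ▸ this]

theorem RR_x [Finite G] (u v : V) : x u ∈ 𝐍[RR x v] := RR_norm (Act.self u) (Or.inl (ac_one v))

theorem RP.inv {v : V} (a : RP x v) : RP x v⁻¹ := by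
  constructor <;> simp only [RR_inv, IR, perp_inv, map_inv, Commute.inv_right_iff]
  exacts [a.mem, a.ne, a.nrm, a.irr, a.cen, a.fix]

theorem RP.act [Finite G] {v : V} {n : G} {h : H} (a : RP x v) (b : Act x n h) : RP x (ac h v) := by
  have s : ∀ u, ∃ w, ac h w = u := fun u => ⟨ac h⁻¹ u, by rw [← ac_mul, mul_inv_cancel, ac_one]⟩
  have c : ∀ {g u}, Commute g (x (ac h u)) → Commute (n⁻¹ * g * n) (x u) := fun c => by
    rw [← b, ← Commute.symm_iff, comm_conj_iff] at c; exact c.symm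
  refine ⟨fun g c => ?_, ?_, fun y p r c => ?_, fun y p r c r1 r' c' => ?_, fun g d => ?_,
    fun g y p d f => ?_⟩
  · obtain ⟨g, d, rfl⟩ := RR_act' b c
    exact (a.mem g d).act b
  · obtain ⟨r, c, d⟩ := a.ne
    exact ⟨_, RR_act b c, by simpa using d⟩
  · obtain ⟨r, f, rfl⟩ := RR_act' b c
    obtain ⟨y, rfl⟩ := s y
    rw [← b, ← (conj_eq_one_iff (a := n)).2 (a.nrm y (fun d => p ((perp_ac ..).2 d)) r f)]; group
  · obtain ⟨r, f, rfl⟩ := RR_act' b c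
    obtain ⟨r', f', rfl⟩ := RR_act' b c'
    obtain ⟨y, rfl⟩ := s y
    rw [← b]
    rcases a.irr y (fun d => p ((perp_ac ..).2 d)) r f (by simpa using r1) r' f' with d | d | d | d <;>
      rw [d]
    exacts [by simp, by simp, Or.inr (Or.inr (Or.inl (by group))), Or.inr (Or.inr (Or.inr (by group)))]
  · obtain ⟨r, f, u, k⟩ := a.cen (n⁻¹ * g * n) fun u p => c (d _ ((perp_ac ..).2 p))
    exact ⟨_, RR_act b f, ac h u, by rw [← b, conj_mul, ← k]; group⟩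
  · obtain ⟨y, rfl⟩ := s y
    simpa [mul_assoc] using mul_mem (mul_mem b.norm
      (a.fix _ y (fun d => p ((perp_ac ..).2 d)) (c d) (c f))) (inv_mem b.norm)

theorem RP.two {v : V} (a : RP x v) : IsPGroup 2 (RR x v) :=
  isPGroup_iff.2 fun g c => ⟨1, by simpa [pow_two] using (a.mem g c).1⟩

theorem RP.fpf {v y : V} (a : RP x v) (p : ¬ perp y v) {r : G} (c : r ∈ RR x v)
    (d : Commute r (x y)) : r = 1 := by
  have := a.nrm y p r c
  rwa [conj_of_comm d.symm, (a.mem r c).1, one_mul, mul_assoc, d.eq, inv_mul_cancel_left] at this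

namespace MF0
variable (hx : MF0 x)
include hx

theorem ne1 {v : V} (h : v ≠ 1) : x v ≠ 1 := fun e => h (hx.inj (e.trans (map_one x).symm))

theorem mem_zp_iff {j v : V} : x v ∈ zpowers (x j) ↔ v ∈ [1, j, j⁻¹] := by
  refine ⟨fun h => ?_, mem_zp⟩
  rw [mem_zpowers_three (xcube x j), ← map_inv, ← map_one x] at h
  simp only [hx.inj.eq_iff] at h
  simpa using h

theorem mem_of_act {n : G} (a : Act x n 1) : n ∈ x.range :=
  hx.cent n fun v => a.comm (ac_one v)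

/-- an element of a normalised 3'-group normalising the frame is trivial -/
theorem eq_one {O : Subgroup G} (hO : N3 O) (hn : ∀ u, x u ∈ 𝐍[O]) {o : G} (ho : o ∈ O)
    (a : o ∈ 𝐍[x.range]) : o = 1 := by
  obtain ⟨u, rfl⟩ := hx.cent o fun v => by
    obtain ⟨w, b⟩ := mul_mem (conj_mem_of_mem_normalizer a ⟨v, rfl⟩) (inv_mem ⟨v, rfl⟩ : _ ∈ x.range)
    have := hO (o * x v * o⁻¹ * (x v)⁻¹) (by
      simpa [mul_assoc] using mul_mem ho (conj_mem_of_mem_normalizer (hn v) (inv_mem ho)))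
      (b ▸ xcube x w)
    exact comm_of_conj (mul_inv_eq_one.1 this)
  exact hO _ ho (xcube x u)

end MF0

/-- the setting -/
structure XS (φ : K2 →* G) (R : Subgroup G) : Prop where
  inj : Function.Injective φ
  r2 : ∀ r ∈ R, r * r = 1
  ne : ∃ r ∈ R, r ≠ 1
  cR : ∀ k ∈ M2, ∀ r ∈ R, Commute (φ k) r
  jR : φ (e 135) ∈ 𝐍[R]
  nrm : ∀ r ∈ R, r * (φ (e 135) * r * (φ (e 135))⁻¹) * ((φ (e 135))⁻¹ * r * φ (e 135)) = 1
  irr : ∀ r ∈ R, r ≠ 1 → ∀ r' ∈ R, r' = 1 ∨ r' = r ∨ r' = φ (e 135) * r * (φ (e 135))⁻¹ ∨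
    r' = (φ (e 135))⁻¹ * r * φ (e 135)
  cz : ∀ g, Commute g (φ (e 1)) → ∃ r ∈ R, ∃ k, g = r * φ k
  mon : ∀ n ∈ 𝐍[(φ.comp fr).range], ∃ h, Act (φ.comp fr) n h
  full : ∀ h, ∃ n, Act (φ.comp fr) n h
  ext : ∀ g, Commute g ((φ.comp fr) (e 1)) → Commute g ((φ.comp fr) (e 3)) →
    g ∈ 𝐍[(φ.comp fr).range]

namespace XS
variable {φ : K2 →* G} {R : Subgroup G} (h : XS φ R) [Finite G]
include h

omit [Finite G] in
theorem two : IsPGroup 2 R := isPGroup_iff.2 fun g c => ⟨1, by simpa [pow_two] using h.r2 g c⟩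

theorem nR (k : K2) : φ k ∈ 𝐍[R] := by
  have a : ∀ k ∈ M2, φ k ∈ 𝐍[R] := fun k a => mem_normalizer_fintype fun r c => by
    rwa [conj_of_comm (h.cR k a r c)]
  rcases (bd! : ∀ k : K2, k ∈ M2 ∨ k * e 135 ∈ M2 ∨ k * (e 135)⁻¹ ∈ M2) k with b | b | b
  · exact a k b
  · exact (mul_mem_cancel_right h.jR).1 (map_mul φ _ _ ▸ a _ b)
  · exact (mul_mem_cancel_right (inv_mem h.jR)).1 (by simpa using a _ b)

omit [Finite G] in
theorem disj {k : K2} (a : φ k ∈ R) : k = 1 :=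
  (bd! : ∀ k : K2, k * k = 1 → Commute (e 3) k → Commute (e 5) k → k = 1) k
    (h.inj (by rw [map_mul, h.r2 _ a, map_one])) (Commute.of_map h.inj (h.cR _ bd! _ a))
    (Commute.of_map h.inj (h.cR _ bd! _ a))

/-- commuting with an element of the image passes to the components -/
theorem split {r : G} (a : r ∈ R) {k l m : K2} (b : r * φ k * φ l * (r * φ k)⁻¹ = φ m) :
    k * l * k⁻¹ = m ∧ Commute r (φ m) := by
  obtain ⟨o, c, d⟩ := cmod (n := φ k) (a := φ l) a (cjm φ rfl ▸ h.nR _)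
  rw [b, cjm φ rfl, ← map_inv, ← map_mul, ← map_mul, ← mul_inv_eq_iff_eq_mul, ← map_inv,
    ← map_mul] at d
  have f : k * l * k⁻¹ = m := by
    exact (mul_right_cancel (mul_inv_eq_one.1 (h.disj (d ▸ c)))).symm
  refine ⟨f, comm_of_conj ?_⟩
  nth_rw 2 [← b]
  rw [← cjm φ f]; group

omit [Finite G] in
theorem key {y : V} (p : ¬ perp y (e 13)) {r : G} (c : r ∈ R) :
    ((φ.comp fr) y * r * ((φ.comp fr) y)⁻¹ = φ (e 135) * r * (φ (e 135))⁻¹ ∧
      ((φ.comp fr) y)⁻¹ * r * (φ.comp fr) y = (φ (e 135))⁻¹ * r * φ (e 135)) ∨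
    ((φ.comp fr) y * r * ((φ.comp fr) y)⁻¹ = (φ (e 135))⁻¹ * r * φ (e 135) ∧
      ((φ.comp fr) y)⁻¹ * r * (φ.comp fr) y = φ (e 135) * r * (φ (e 135))⁻¹) := by
  obtain ⟨k, a, b, d⟩ := (bd! : ∀ y, ¬ perp y (e 13) → ∃ k ∈ M2, Commute (e 135) k ∧
    (fr y = e 135 * k ∨ fr y = (e 135 * k)⁻¹)) y p
  have e1 := conj_of_comm (h.cR k a r c)
  have e2 := conj_of_comm (h.cR k a r c).inv_left
  have f1 : φ (e 135 * k) * r * (φ (e 135 * k))⁻¹ = φ (e 135) * r * (φ (e 135))⁻¹ := by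
    nth_rw 2 [← e1]; rw [map_mul]; group
  have f2 : (φ (e 135 * k))⁻¹ * r * φ (e 135 * k) = (φ (e 135))⁻¹ * r * φ (e 135) := by
    nth_rw 2 [← e2]; rw [b.eq, map_mul]; group
  rw [MonoidHom.comp_apply]
  rcases d with d | d <;> rw [d]
  exacts [Or.inl ⟨f1, f2⟩, Or.inr (by rw [map_inv, inv_inv]; exact ⟨f2, f1⟩)]

theorem cen {g : G} (a : ∀ u, perp u (e 13) → Commute g ((φ.comp fr) u)) :
    ∃ r ∈ R, ∃ u, g = r * (φ.comp fr) u := by
  obtain ⟨r, c, k, rfl⟩ := h.cz g (xe φ 13 1 bd! ▸ a _ bd!)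
  obtain ⟨u, rfl⟩ := (bd! : ∀ k : K2, k * e 3 * k⁻¹ = e 3 → ∃ u, fr u = k) k
    (h.split c (conj_of_comm (xe φ 5 3 bd! ▸ a _ bd!))).1
  exact ⟨r, c, u, rfl⟩

theorem ir {g : G} : IR (φ.comp fr) (e 13) g ↔ g ∈ R := by
  refine ⟨fun a => ?_, fun a => ⟨h.r2 g a, fun u p =>
    (h.cR _ ((bd! : ∀ u, perp u (e 13) → fr u ∈ M2) u p) g a).symm⟩⟩
  obtain ⟨r, c, u, rfl⟩ := h.cen a.2
  rwa [cop_one (.two h.two) c (d := (φ.comp fr) u) (h.nR _) (xcube _ u) (m := 2) (by norm_num)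
    ((pow_two _).trans a.1), mul_one]

theorem RR13 : RR (φ.comp fr) (e 13) = R :=
  le_antisymm ((closure_le _).2 fun _ a => h.ir.1 a) fun _ a => subset_closure (h.ir.2 a)

omit [Finite G] in
theorem fpf {r : G} (c : r ∈ R) (d : Commute r (φ (e 135))) : r = 1 := by
  have := h.nrm r c
  rwa [conj_of_comm d.symm, h.r2 r c, one_mul, mul_assoc, d.eq, inv_mul_cancel_left] at this

omit [Finite G] in
theorem fpf' {r : G} (c : r ∈ R) {k : K2} (a : k ∉ M2) (d : Commute r (φ k)) : r = 1 := by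
  refine h.fpf c ?_
  rcases ((bd! : ∀ k : K2, k ∈ M2 ∨ k * e 135 ∈ M2 ∨ k⁻¹ * e 135 ∈ M2) k).resolve_left a with b | b
  · simpa using d.inv_right.mul_right (h.cR _ b r c).symm
  · simpa using d.mul_right (h.cR _ b r c).symm

theorem mf : MF0 (φ.comp fr) := by
  refine ⟨h.inj.comp ((injective_iff_map_eq_one _).2 bd!), fun g a => ?_, h.mon, h.full⟩
  obtain ⟨r, c, u, rfl⟩ := h.cen fun u _ => a u
  rw [h.fpf c (xe φ 17 135 bd! ▸ by simpa using (a (e 17)).mul_left (xcomm _ u _).inv_left), one_mul]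
  exact ⟨u, rfl⟩

theorem rp13 : RP (φ.comp fr) (e 13) := by
  refine ⟨fun g a => h.ir.2 (h.RR13 ▸ a), h.RR13 ▸ h.ne, fun y p r c => ?_,
    fun y p r c r1 r' c' => ?_, fun g a => h.RR13 ▸ h.cen a, fun g y p a b => ?_⟩
  · rw [h.RR13] at c
    rcases h.key p c with ⟨a, b⟩ | ⟨a, b⟩ <;> rw [a, b]
    · exact h.nrm r c
    · have d := conj_mem_of_mem_normalizer h.jR c
      have f := inv_conj_mem_of_mem_normalizer h.jR c
      rw [mul_assoc, (comm_of_sq (h.r2 _ f) (h.r2 _ d) (h.r2 _ (mul_mem f d))).eq, ← mul_assoc,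
        h.nrm r c]
  · rw [h.RR13] at c c'
    rcases h.key p c with ⟨a, b⟩ | ⟨a, b⟩ <;> rw [a, b]
    exacts [h.irr r c r1 r' c', (h.irr r c r1 r' c').imp_right (Or.imp_right Or.symm)]
  · obtain ⟨r, c, k, rfl⟩ := h.cz g (xe φ 13 1 bd! ▸ a)
    obtain ⟨d, f⟩ := h.split c (conj_of_comm b)
    obtain ⟨m, l, n⟩ := (bd! : ∀ y, ¬ perp y (e 13) → fr y ∉ M2 ∧ ∀ k : K2, k * fr y * k⁻¹ = fr y →
      ∃ l ∈ (es [0, 3, 4, 5] : List H), ∀ v ∈ (es [1, 3, 9] : List V), k * fr v * k⁻¹ = fr (ac l v))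
      y p |>.imp_right fun a => a k d
    rw [h.fpf' c m f, one_mul]
    exact (act_of n.2).norm

theorem rp {v : V} (a : v ∈ (es [13, 14, 16, 17, 26, 25, 23, 22] : List V)) : RP (φ.comp fr) v := by
  obtain ⟨k, rfl⟩ := (bd! : ∀ v ∈ (es [13, 14, 16, 17, 26, 25, 23, 22] : List V),
    ∃ k, ac k (e 13) = v) v a
  obtain ⟨n, b⟩ := h.full k
  exact h.rp13.act b

theorem syl : IsSyl 3 (S2.map φ) ⊤ := by
  have := Fact.mk Nat.prime_three
  have p : IsPGroup 3 (S2.map φ) := isPGroup_iff.2 (by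
    rintro _ ⟨k, hk, rfl⟩
    exact ⟨2, by rw [← map_pow, (bd! : ∀ k ∈ S2, k ^ 3 ^ 2 = 1) k hk, map_one]⟩)
  refine isSyl_of_isSyl_normalizer ⟨le_inf le_top le_normalizer, p, fun T hT _ a r hr => ?_⟩
  obtain ⟨n, hn⟩ := isPGroup_iff.1 hT r hr
  have nz : r * φ (e 1) * r⁻¹ = φ (e 1) ∨ r * φ (e 1) * r⁻¹ = (φ (e 1))⁻¹ := by
    obtain ⟨k, hk, e1⟩ := conj_mem_of_mem_normalizer (a hr).2 (mem_map_of_mem φ (bd! : e 1 ∈ S2))
    have c : ∀ l ∈ S2, Commute k l := fun l hl => Commute.of_map h.inj (by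
      obtain ⟨m, hm, e2⟩ := inv_conj_mem_of_mem_normalizer (a hr).2 (mem_map_of_mem φ hl)
      rw [e1, comm_conj_iff, ← e2]
      exact ((bd! : ∀ m ∈ S2, Commute (e 1) m) m hm).map φ)
    rw [← e1, ← map_inv]
    exact (((bd! : ∀ k ∈ S2, Commute k (e 5) → Commute k (e 135) → k = 1 ∨ k = e 1 ∨ k = (e 1)⁻¹) k hk
      (c _ bd!) (c _ bd!)).resolve_left fun b => h.mf.ne1 (v := e 13) bd! (by
        rw [xe φ 13 1 bd!, ← conj_eq_one_iff (a := r), ← e1, b, map_one])).imp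
      (congrArg φ) (congrArg φ)
  obtain ⟨o, c, k, rfl⟩ := h.cz r (mem_cent.1 (mem_of_sq hn (mem_cent.2 (pow_two r ▸ sq_comm nz))))
  obtain ⟨l, hl, e1⟩ := conj_mem_of_mem_normalizer (a hr).2 (mem_map_of_mem φ (bd! : e 135 ∈ S2))
  obtain ⟨d, f⟩ := h.split c e1.symm
  subst d
  obtain rfl := h.fpf' c ((bd! : ∀ k : K2, k * e 135 * k⁻¹ ∉ M2) k) f
  rw [one_mul] at hn ⊢
  exact mem_of_sq hn ⟨_, (bd! : ∀ k, k * e 135 * k⁻¹ ∈ S2 → k * k ∈ S2) k hl, map_mul ..⟩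

omit h [Finite G] in
theorem JS : (φ.comp fr).range ≤ S2.map φ := range_fr φ ▸ map_mono (bd! : ∀ j ∈ J2, j ∈ S2)

theorem wc (g : G) (a : cj(g, (φ.comp fr).range) ≤ S2.map φ) : g ∈ 𝐍[(φ.comp fr).range] := by
  refine mem_normalizer_of_cj_le fun y b => by_contra fun c => ?_
  obtain ⟨k, d, rfl⟩ := a b
  have y3 : ∀ y ∈ cj(g, (φ.comp fr).range), y ^ 3 = 1 := by
    rintro _ ⟨_, ⟨v, rfl⟩, rfl⟩; exact cj_pow (xcube _ v)
  obtain ⟨f1, f2, f3⟩ := (bd! : ∀ k ∈ S2, k ^ 3 = 1 → k ∉ J2 → Commute (e 1) k ∧ (e 1 ≠ k ∧ e 1 ≠ k⁻¹) ∧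
    ∀ l ∈ S2, Commute l k → ∃ i ∈ [1, e 1, (e 1)⁻¹], ∃ j ∈ [1, k, k⁻¹], l = i * j) k d
    (h.inj (by rw [map_pow, y3 _ b, map_one])) fun f => c (range_fr φ ▸ mem_map_of_mem φ f)
  have := card_le_of_le (show cj(g, (φ.comp fr).range) ≤ closure {φ (e 1), φ k} from fun y m => by
    obtain ⟨l, d, rfl⟩ := a m
    obtain ⟨i, p, j, q, rfl⟩ := f3 l d (Commute.of_map h.inj (by
      obtain ⟨_, ⟨u, rfl⟩, p⟩ := m
      obtain ⟨_, ⟨v, rfl⟩, q⟩ := b
      exact p ▸ q ▸ Commute.cj (xcomm _ u v) g))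
    simp only [List.mem_cons, List.not_mem_nil, or_false] at p q
    rw [map_mul]
    refine mul_mem ?_ ?_
    · rcases p with rfl | rfl | rfl <;> simp [mem_l]
    · rcases q with rfl | rfl | rfl <;> simp [mem_r])
  rw [card_nine (pow3 φ bd!) (y3 _ b) (f1.map φ) (fun f => c (f ▸ one_mem _)) (fun f => by
      rw [mem_zpowers_three (y3 _ b), ← map_inv, ← map_one φ] at f
      simp only [h.inj.eq_iff] at f
      exact f.elim bd! (not_or.2 f2)), card_cj,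
    ← Nat.card_congr (MonoidHom.ofInjective h.mf.inj).toEquiv, TG.card] at this
  exact absurd this (by decide)

theorem fus {g : G} {a b a' b' : V} (p : g * (φ.comp fr) a * g⁻¹ = (φ.comp fr) a')
    (q : g * (φ.comp fr) b * g⁻¹ = (φ.comp fr) b') : ∃ k, ac k a = a' ∧ ac k b = b' := by
  have := Fact.mk Nat.prime_three
  have c : ∀ v, ∀ j ∈ (φ.comp fr).range, Commute j ((φ.comp fr) v) := by
    rintro v _ ⟨u, rfl⟩; exact xcomm ..
  obtain ⟨n, hn, d, f⟩ := burn_fus h.syl JS h.wc (g := g) (c a) (c b) (p ▸ c a') (q ▸ c b')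
  obtain ⟨k, m⟩ := h.mon n hn
  exact ⟨k, h.mf.inj ((m a).symm.trans (d.trans p)), h.mf.inj ((m b).symm.trans (f.trans q))⟩

end XS

end Cfsg.Agent.Co2L
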