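import Cfsg.Agent.Co2L.XA

/-!
The centraliser of an element with two nonzero coordinates.
-/

set_option autoImplicit false
set_option maxRecDepth 100000
set_option synthInstance.maxHeartbeats 400000
set_option synthInstance.maxSize 4000

namespace Cfsg.Agent.Co2L

open Subgroup Cfsg Cfsg.Agent.Comp Cfsg.Agent.X32.TG Cfsg.Agent.PLocal.Amb
open Cfsg.Agent.Loc3 Cfsg.Agent.Loc3.Pr
open Cfsg.Agent.X32 (TG Tab sub Mem)
open Cfsg.Agent.PS4 (K2 J2 S2 Q2 cjm pow3)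

variable {G : Type*} [Group G]

theorem zp_ex {x : V →* G} {j : V} {y : G} (h : y ∈ zpowers (x j)) : ∃ i ∈ [1, j, j⁻¹], y = x i := by
  rcases (mem_zpowers_three (xcube x j)).1 h with rfl | rfl | rfl
  exacts [⟨1, by simp, by simp⟩, ⟨j, by simp, rfl⟩, ⟨j⁻¹, by simp, by simp⟩]

theorem xm (x : V →* G) (v : V) : x v ∈ x.range := ⟨v, rfl⟩

theorem comm_zp {x : V →* G} {j i : V} {g : G} (h : i ∈ [1, j, j⁻¹]) (c : Commute g (x j)) :
    Commute g (x i) := by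
  obtain ⟨n, a⟩ := mem_zp (x := x) h
  exact a ▸ c.zpow_right n

theorem comm_two {x : V →* G} {a b u : V} {g : G} (c : Commute g (x a)) (d : Commute g (x b))
    (h : ∃ i ∈ [1, a, a⁻¹], ∃ j ∈ [1, b, b⁻¹], u = i * j) : Commute g (x u) := by
  obtain ⟨i, p, j, q, rfl⟩ := h
  exact map_mul x i j ▸ (comm_zp p c).mul_right (comm_zp q d)

theorem comm_all {x : V →* G} {g : G} (a : Commute g (x (e 1))) (b : Commute g (x (e 3)))
    (c : Commute g (x (e 9))) (v : V) : Commute g (x v) :=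
  (Act.of_three (h := 1) (by rw [ac_one, conj_of_comm a]) (by rw [ac_one, conj_of_comm b])
    (by rw [ac_one, conj_of_comm c])).comm (ac_one v)

namespace XS
variable {φ : K2 →* G} {R : Subgroup G} (h : XS φ R) [Finite G]
include h

local notation "𝐱" => φ.comp fr

theorem loc {a : V} (ha : a ∉ [1, e 4, (e 4)⁻¹]) :
    (∀ g, Commute g (𝐱 (e 4)) → Commute g (𝐱 a) → g ∈ 𝐍[(𝐱).range]) ∨
    ∃ v ∈ (es [14, 16] : List V), perp a v ∧ ∀ g, Commute g (𝐱 (e 4)) → Commute g (𝐱 a) →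
      ∃ r ∈ RR 𝐱 v, ∃ u, g = r * 𝐱 u := by
  rcases (bd! : ∀ a : V, a ∉ [1, e 4, (e 4)⁻¹] →
    (∀ u ∈ (es [1, 3] : List V), ∃ i ∈ [1, e 4, (e 4)⁻¹], ∃ j ∈ [1, a, a⁻¹], u = i * j) ∨
    (∃ i ∈ [1, e 4, (e 4)⁻¹], ∃ j ∈ [1, a, a⁻¹], e 13 = i * j) ∨ ∃ v ∈ (es [14, 16] : List V),
      perp a v ∧ ∀ u, perp u v → ∃ i ∈ [1, e 4, (e 4)⁻¹], ∃ j ∈ [1, a, a⁻¹], u = i * j) a ha
    with b | b | ⟨v, hv, p, b⟩
  · exact Or.inl fun g c d => h.ext g (comm_two c d (b _ bd!)) (comm_two c d (b _ bd!))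
  · exact Or.inl fun g c d => h.rp13.fix g _ bd! (comm_two c d b) c
  · exact Or.inr ⟨v, hv, p, fun g c d => (h.rp ((bd! : ∀ v ∈ (es [14, 16] : List V),
      v ∈ (es [13, 14, 16, 17, 26, 25, 23, 22] : List V)) v hv)).cen g fun u q => comm_two c d (b u q)⟩

theorem exists_O : ∃ O : Subgroup G, (Nat.card O).Coprime 3 ∧ (∀ o ∈ O, Commute o (𝐱 (e 4))) ∧
    ∀ g, Commute g (𝐱 (e 4)) → g ∈ 𝐍[O] ∧ ∃ o ∈ O, ∃ n ∈ 𝐍[(𝐱).range], g = o * n := by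
  have := Fact.mk Nat.prime_three
  obtain ⟨X, _, _, η, q⟩ := exists_CQ (𝐱 (e 4))
  have m := h.mf
  have cx := fun v => xcomm 𝐱 v (e 4)
  have cj : ∀ {g y : G}, Commute g (𝐱 (e 4)) → Commute y (𝐱 (e 4)) →
      Commute (g * y * g⁻¹) (𝐱 (e 4)) := fun a b => (a.mul_left b).mul_left a.inv_left
  have pc : ∀ {g y : G}, Commute g (𝐱 (e 4)) → Commute y (𝐱 (e 4)) → Commute g y →
      Commute (η g) (η y) := fun a b c => by change _ = _; rw [← q.mul a b, ← q.mul b a, c.eq]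
  have eqv : ∀ a b, η (𝐱 a) = η (𝐱 b) ↔ b⁻¹ * a ∈ [1, e 4, (e 4)⁻¹] := fun a b => by
    rw [q.eq_iff (cx a) (cx b), ← map_inv, ← map_mul, m.mem_zp_iff]
  have iv : ∀ a, η (𝐱 a⁻¹) = (η (𝐱 a))⁻¹ := fun a => by rw [map_inv, q.map_inv (cx a)]
  have im : q.im (𝐱).range = closure {η (𝐱 (e 1)), η (𝐱 (e 9))} := by
    rw [← q.im_pair (cx _) (cx _)]
    refine le_antisymm (fun y a => ?_) fun y a => ?_
    · obtain ⟨_, ⟨v, rfl⟩, -, rfl⟩ := q.mem_im.1 a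
      obtain ⟨i, b, j, c, d⟩ := (bd! : ∀ v : V, ∃ i ∈ [1, e 1, (e 1)⁻¹], ∃ j ∈ [1, e 9, (e 9)⁻¹],
        (i * j)⁻¹ * v ∈ [1, e 4, (e 4)⁻¹]) v
      rw [(eqv _ _).2 d]
      exact q.mem_im_of (map_mul 𝐱 i j ▸ mul_mem (zpowers_le.2 mem_l (mem_zp b))
        (zpowers_le.2 mem_r (mem_zp c))) (cx _)
    · obtain ⟨g, b, c, rfl⟩ := q.mem_im.1 a
      exact q.mem_im_of ((closure_le _).2 (Set.pair_subset (xm _ _) (xm _ _)) b) c
  have nm : ∀ {g}, Commute g (𝐱 (e 4)) → (η g ∈ 𝐍[closure ({η (𝐱 (e 1)), η (𝐱 (e 9))} : Set X)] ↔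
      g ∈ 𝐍[(𝐱).range]) := fun {g} hg => by
    rw [← im]
    refine ⟨fun a => mem_normalizer_fintype ?_, fun a => mem_normalizer_fintype fun p hp => ?_⟩
    · rintro _ ⟨v, rfl⟩
      exact q.mem_of_mem_im (xm _ _) (cj hg (cx v)) (q.map_conj hg (cx v) ▸
        conj_mem_of_mem_normalizer a (q.mem_im_of ⟨v, rfl⟩ (cx v)))
    · obtain ⟨p, hp', d, rfl⟩ := q.mem_im.1 hp
      exact q.map_conj hg d ▸ q.mem_im_of (conj_mem_of_mem_normalizer a hp') (cj hg d)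
  have cl : ∀ {g a}, Commute g (𝐱 (e 4)) → Commute (η g) (η (𝐱 a)) → Commute g (𝐱 a) :=
    fun {g a} c d => by
      obtain ⟨i, b, f⟩ := zp_ex ((q.eq_iff (cj c (cx a)) (cx a)).1 (by
        rw [q.map_conj c (cx a), conj_of_comm d]))
      rw [inv_mul_eq_iff_eq_mul, ← map_mul] at f
      obtain ⟨k, p, r⟩ := h.fus f (conj_of_comm c)
      rw [(bd! : ∀ k, ac k (e 4) = e 4 → ∀ a, ∀ i ∈ [1, e 4, (e 4)⁻¹], ac k a = a * i → i = 1)
        k r a i b p, mul_one] at f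
      exact comm_of_conj f
  have ac' : ∀ {g k}, Commute g (𝐱 (e 4)) → Act 𝐱 g k → ∀ v w, w⁻¹ * ac k v ∈ [1, e 4, (e 4)⁻¹] →
      η g * η (𝐱 v) * (η g)⁻¹ = η (𝐱 w) := fun c a v w b => by
    rw [← q.map_conj c (cx v), a v, (eqv _ _).2 b]
  have R2' : R2 (η (𝐱 (e 1))) (η (𝐱 (e 9))) := by
    refine ⟨by rw [← q.map_pow (cx _), xcube, q.map_one], by rw [← q.map_pow (cx _), xcube, q.map_one],
      pc (cx _) (cx _) (xcomm ..), fun a => absurd (m.mem_zp_iff.1 ((q.ker (cx _)).1 a)) bd!,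
      fun a => ?_, fun g a b => ?_, fun n hn => ?_⟩
    · rw [mem_zpowers_three (by rw [← q.map_pow (cx _), xcube, q.map_one]), ← iv, ← q.map_one,
        ← map_one 𝐱] at a
      simp only [eqv] at a
      exact absurd a bd!
    · obtain ⟨g, c, rfl⟩ := q.surj g
      exact im ▸ q.mem_im_of (m.cent g (comm_all (cl c a) (comm_two c (cl c a) bd!) (cl c b))) c
    · obtain ⟨n, c, rfl⟩ := q.surj n
      obtain ⟨k, a⟩ := h.mon n ((nm c).1 hn)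
      rw [← iv, ← iv]
      exact ((bd! : ∀ k, ac k (e 4) = e 4 → ∀ v ∈ (es [1, 9] : List V),
        v⁻¹ * ac k v ∈ [1, e 4, (e 4)⁻¹] ∨ v⁻¹⁻¹ * ac k v ∈ [1, e 4, (e 4)⁻¹]) k (a.fix m.inj c) |>
        fun d => ⟨(d _ bd!).imp (ac' c a _ _) (ac' c a _ _), (d _ bd!).imp (ac' c a _ _) (ac' c a _ _)⟩)
  obtain ⟨n1, a1⟩ := h.full (e 3)
  obtain ⟨n2, a2⟩ := h.full (e 24)
  have c1 := a1.comm (v := e 4) bd!
  have c2 := a2.comm (v := e 4) bd!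
  have core := R2'.cstar (fun y hy y1 g c => by
      obtain ⟨_, ⟨a, rfl⟩, -, rfl⟩ := q.mem_im.1 (im.ge hy)
      obtain ⟨g, cg, rfl⟩ := q.surj g
      rcases h.loc (a := a) fun b => y1 ((q.ker (cx a)).2 (mem_zp b)) with b | ⟨v, hv, p, b⟩
      · exact ⟨1, one_mem _, _, (nm cg).2 (b g cg (cl cg c)), by simp⟩
      have rp := h.rp ((bd! : ∀ v ∈ (es [14, 16] : List V),
        v ∈ (es [13, 14, 16, 17, 26, 25, 23, 22] : List V)) v hv)
      have c4 : ∀ r ∈ RR 𝐱 v, Commute r (𝐱 (e 4)) := fun r c => (rp.mem r c).2 _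
        ((bd! : ∀ v ∈ (es [14, 16] : List V), perp (e 4) v) v hv)
      obtain ⟨r, d, u, rfl⟩ := b g cg (cl cg c)
      refine ⟨_, le_Op' (K := q.im (RR 𝐱 v)) (fun o ho => ?_) (fun g hg => ?_)
        (cop_of_isP (by decide) ((isPGroup_subgroupOf rp.two _).map _)) (q.mem_im_of d (c4 r d)), _,
        (nm (cx u)).2 (le_normalizer ⟨u, rfl⟩), q.mul (c4 r d) (cx u)⟩
      · obtain ⟨o, ho', co, rfl⟩ := q.mem_im.1 ho
        exact mem_cent.2 (pc co (cx a) ((rp.mem o ho').2 a p))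
      · obtain ⟨g, cg, rfl⟩ := q.surj g
        refine mem_normalizer_fintype fun o ho => ?_
        obtain ⟨o, ho', co, rfl⟩ := q.mem_im.1 ho
        obtain ⟨r, d, u, f⟩ := b g cg (cl cg (mem_cent.1 hg))
        exact q.map_conj cg co ▸ q.mem_im_of (conj_mem_of_mem_normalizer
          (f ▸ mul_mem (le_normalizer d) (RR_x u v)) ho') (cj cg co))
    (iv _ ▸ ac' c1 a1 _ _ bd!) (ac' c1 a1 _ _ bd!) (ac' c2 a2 _ _ bd!) (iv _ ▸ ac' c2 a2 _ _ bd!)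
  have mO : ∀ {g : G}, g ∈ ((pPrimeCore 3 X).comap q.hom).map (centralizer {𝐱 (e 4)}).subtype ↔
      Commute g (𝐱 (e 4)) ∧ η g ∈ pPrimeCore 3 X :=
    ⟨fun ⟨k, a, b⟩ => b ▸ ⟨mem_cent.1 k.2, a⟩, fun ⟨a, b⟩ => ⟨⟨_, mem_cent.2 a⟩, b, rfl⟩⟩
  refine ⟨Op' 3 _, coprime_Op' 3 _, fun o a => (mO.1 (Op'_le 3 _ a)).1, fun g c =>
    ⟨norm_le_norm_Op' 3 _ (le_normalizer_map_subtype _ (mem_cent.2 c)), ?_⟩⟩
  obtain ⟨o, ho, n, hn, a⟩ := core (η g)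
  obtain ⟨n, cn, rfl⟩ := q.surj n
  obtain ⟨o, b, t, d, f⟩ := burn (p := 3) (T := zpowers (𝐱 (e 4)))
    ⟨zpowers_le.2 (mO.2 ⟨cx _, q.map_s ▸ one_mem _⟩), isPGroup_zpowers ⟨1, by simpa using xcube 𝐱 _⟩,
      fun T hT _ b r c => by
        obtain ⟨d, f⟩ := mO.1 (b c)
        obtain ⟨k, l⟩ := isPGroup_iff.1 hT r c
        exact (q.ker d).1 (orderOf_eq_one_iff.1 (Nat.eq_one_of_dvd_coprimes
          ((Grp.pPrimeCore_coprime 3 X).pow_right k) (orderOf_dvd_natCard _ f)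
          (orderOf_dvd_of_pow_eq_one (by rw [← q.map_pow d, l, q.map_one]))))⟩
    (fun y b => by rw [centralizer_zpowers]; exact mem_cent.2 (mO.1 b.1).1)
    (mO.2 ⟨c.mul_left cn.inv_left, by
      rwa [q.mul c cn.inv_left, q.map_inv cn, a, mul_inv_cancel_right]⟩)
  exact ⟨o, b, t * n, mul_mem (le_normalizer (zpowers_le.2 (xm _ _) d)) ((nm cn).1 hn), by
    rw [← mul_assoc, ← f, inv_mul_cancel_right]⟩

theorem stepA : (∀ a ∈ RR 𝐱 (e 14), ∀ b ∈ RR 𝐱 (e 16), Commute a b) ∧ ∀ g, Commute g (𝐱 (e 4)) →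
    ∃ o ∈ RR 𝐱 (e 14) ⊔ RR 𝐱 (e 16), ∃ n ∈ 𝐍[(𝐱).range], g = o * n := by
  have := Fact.mk Nat.prime_two
  obtain ⟨O, cO, c4, hO⟩ := h.exists_O
  have m := h.mf
  have nO := fun u => (hO _ (xcomm 𝐱 u (e 4))).1
  have rp := fun v hv => h.rp ((bd! : ∀ v ∈ (es [14, 16] : List V),
    v ∈ (es [13, 14, 16, 17, 26, 25, 23, 22] : List V)) v hv)
  have p1 := (bd! : ∀ v ∈ (es [14, 16] : List V), perp (e 4) v ∧ ¬ perp (e 1) v)
  have RO : ∀ v ∈ (es [14, 16] : List V), RR 𝐱 v ≤ O := fun v hv r c => by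
    obtain ⟨-, o, a, n, b, d⟩ := hO r (((rp v hv).mem r c).2 _ (p1 v hv).1)
    obtain ⟨k, f⟩ := m.mon n b
    obtain ⟨o', i, j⟩ := cmod (a := 𝐱 (e 1)) a (f _ ▸ nO _)
    have l : r * 𝐱 (e 1) * r⁻¹ * (𝐱 (e 1))⁻¹ = r * (𝐱 (e 1) * r * (𝐱 (e 1))⁻¹) := by
      rw [inv_eq_of_mul_eq_one_right ((rp v hv).mem r c).1]; group
    rw [← d, l, f, ← map_inv, ← map_mul] at j
    rw [cop_one (.cop cO) i (nO (ac k (e 1) * (e 1)⁻¹)) (xcube _ _) (m := 2) (by norm_num) (by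
      rw [← j, pow_two, map_inv]
      exact ((rp v hv).mem _ (mul_mem c (conj_mem_of_mem_normalizer (RR_x _ v) c))).1), mul_one,
      map_inv] at j
    have := eq_inv_of_mul_eq_one_right ((rp v hv).nrm _ (p1 v hv).2 r c)
    rw [j] at this
    have := conj_mem_of_mem_normalizer (nO (e 1)) (this ▸ inv_mem i)
    rwa [show ∀ y : G, y * (y⁻¹ * r * y) * y⁻¹ = r from fun y => by group] at this
  have key : ∀ k ∈ O, Commute k (𝐱 (e 1)) ∨ Commute k (𝐱 (e 9)) ∨ Commute k (𝐱 (e 1) * 𝐱 (e 9)) ∨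
      Commute k (𝐱 (e 1) * (𝐱 (e 9))⁻¹) → k = 1 ∨ ∃ v ∈ (es [14, 16] : List V), k ∈ RR 𝐱 v :=
    fun k a b => by
      obtain ⟨u, c, d⟩ : ∃ u, u ∉ [1, e 4, (e 4)⁻¹] ∧ Commute k (𝐱 u) := by
        rw [← map_inv, ← map_mul, ← map_mul] at b
        rcases b with b | b | b | b <;> exact ⟨_, bd!, b⟩
      rcases h.loc c with f | ⟨v, hv, -, f⟩
      · exact Or.inl (m.eq_one (.cop cO) nO a (f k (c4 k a) d))
      · obtain ⟨r, i, w, rfl⟩ := f k (c4 k a) d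
        rw [N3.cop cO _ ((mul_mem_cancel_left (RO v hv i)).1 a) (xcube ..), mul_one]
        exact Or.inr ⟨v, hv, i⟩
  have n9 : 𝐱 (e 1) ∉ zpowers (𝐱 (e 9)) := fun a => absurd (m.mem_zp_iff.1 a) bd!
  have p2 : IsPGroup 2 O := two_group_of (xcube ..) (xcube ..) (xcomm ..) (m.ne1 bd!) n9 (nO _) (nO _)
    cO fun k a b => ⟨1, by
      rcases key k a b with rfl | ⟨v, hv, c⟩
      exacts [one_pow _, (pow_two k).trans ((rp v hv).mem k c).1]⟩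
  have le := le_of_four (Y := RR 𝐱 (e 14) ⊔ RR 𝐱 (e 16)) (xcube ..) (xcube ..) (xcomm ..) (m.ne1 bd!)
    n9 (nO _) (nO _) cO fun k a b => by
      rcases key k a b with rfl | ⟨v, hv, c⟩
      · exact one_mem _
      simp only [es, List.map, List.mem_cons, List.not_mem_nil, or_false] at hv
      rcases hv with rfl | rfl
      exacts [mem_sup_left c, mem_sup_right c]
  refine ⟨fun a ha b hb => ?_, fun g c => ?_⟩
  · have nZ : ∀ u, 𝐱 u ∈ 𝐍[O ⊓ 𝐂[O]] := fun u =>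
      le_normalizer_inf le_rfl (normalizer_le_normalizer_centralizer O) (nO u)
    obtain ⟨v, hv, le⟩ : ∃ v ∈ (es [14, 16] : List V), RR 𝐱 v ≤ O ⊓ 𝐂[O] := by
      by_contra! d
      obtain ⟨r, i, j⟩ := (rp (e 14) bd!).ne
      refine inf_centralizer_ne_bot p2 p2 le_normalizer (fun f => j (f.le (RO _ bd! i)))
        (le_bot_iff.1 (le_of_four (xcube ..) (xcube ..) (xcomm ..) (m.ne1 bd!) n9 (nZ _) (nZ _)
          (cO.coprime_dvd_left (card_dvd_of_le inf_le_left)) fun k a b => by_contra fun k1 => ?_))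
      obtain ⟨v, hv, c⟩ := (key k a.1 b).resolve_left k1
      refine d v hv fun r' c' => ?_
      rcases (rp v hv).irr _ (p1 v hv).2 k c k1 r' c' with rfl | rfl | rfl | rfl
      exacts [one_mem _, a, conj_mem_of_mem_normalizer (nZ _) a, inv_conj_mem_of_mem_normalizer (nZ _) a]
    simp only [es, List.map, List.mem_cons, List.not_mem_nil, or_false] at hv
    rcases hv with rfl | rfl
    exacts [((le ha).2 b (RO _ bd! hb) : Commute b a).symm, (le hb).2 a (RO _ bd! ha)]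
  · obtain ⟨-, o, a, d⟩ := hO g c
    exact ⟨o, le a, d⟩

end XS

end Cfsg.Agent.Co2L
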