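import Cfsg.Agent.Co2L.XB
import Cfsg.Agent.Loc3.Tools5

/-!
The maximal signaliser and its normaliser.
-/

set_option autoImplicit false
set_option maxRecDepth 100000
set_option synthInstance.maxHeartbeats 400000
set_option synthInstance.maxSize 4000

namespace Cfsg.Agent.Co2L

open Subgroup Cfsg Cfsg.Agent.Comp Cfsg.Agent.X32.TG Cfsg.Agent.PLocal.Amb
open Cfsg.Agent.Loc3 Cfsg.Agent.Loc3.Pr
open Cfsg.Agent.X32 (TG Tab sub Mem)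
open Cfsg.Agent.PS4 (K2 J2 S2 Q2 cjm pow3)

variable {G : Type*} [Group G]

noncomputable abbrev zl : List V := es [13, 14, 16, 17, 26, 25, 23, 22]

/-- the product of the four-groups -/
def EE (x : V →* G) : Subgroup G := closure {g | ∃ v ∈ zl, g ∈ RR x v}

theorem RR_le {x : V →* G} {v : V} (h : v ∈ zl) : RR x v ≤ EE x := fun _ a =>
  subset_closure ⟨v, h, a⟩

theorem EE_act [Finite G] {x : V →* G} {n : G} {k : H} (a : Act x n k) : n ∈ 𝐍[EE x] :=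
  mem_normalizer_fintype fun g b => by
    induction b using closure_induction with
    | mem g b =>
      obtain ⟨v, c, b⟩ := b
      exact RR_le ((bd! : ∀ k, ∀ v ∈ zl, ac k v ∈ zl) k v c) (RR_act a b)
    | one => simp
    | mul g l _ _ b c => rw [← conj_mul]; exact mul_mem b c
    | inv g _ b => exact conj_inv' n g ▸ inv_mem b

theorem EE_x [Finite G] (x : V →* G) (u : V) : x u ∈ 𝐍[EE x] := EE_act (Act.self u)

theorem RP.irr' {x : V →* G} {v y : V} (a : RP x v) (p : ¬ perp y v) {r r' : G} (c : r ∈ RR x v)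
    (r1 : r ≠ 1) (c' : r' ∈ RR x v) (r1' : r' ≠ 1) : ∃ i ∈ [1, y, y⁻¹], r' = x i * r * (x i)⁻¹ := by
  rcases (a.irr y p r c r1 r' c').resolve_left r1' with b | b | b
  exacts [⟨1, by simp, by simpa⟩, ⟨y, by simp, b⟩, ⟨y⁻¹, by simp, by simpa⟩]

theorem RP.cent2 [Finite G] {x : V →* G} {v y : V} (a : RP x v) (p : ¬ perp y v) {n : G}
    (n2 : n * n = 1) (hn : n ∈ 𝐍[RR x v]) (c : Commute n (x y)) {r : G} (hr : r ∈ RR x v) :
    Commute n r := by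
  by_contra b
  have r1 : r ≠ 1 := fun d => b (d ▸ Commute.one_right n)
  obtain ⟨i, d, f⟩ := a.irr' p hr r1 (conj_mem_of_mem_normalizer hn hr) (by simpa)
  have l : x (i * i) * r * (x (i * i))⁻¹ = r := by
    have := conj_of_comm (comm_zp d c)
    calc _ = x i * (n * r * n⁻¹) * (x i)⁻¹ := by rw [f, map_mul]; group
      _ = n * (x i * r * (x i)⁻¹) * n⁻¹ := by nth_rw 1 2 [← this]; rw [← this]; group
      _ = r := by rw [← f, show n * (n * r * n⁻¹) * n⁻¹ = n * n * r * (n * n)⁻¹ by group, n2]; simp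
  rcases (bd! : ∀ v y, ¬ perp y v → ∀ i ∈ [1, y, y⁻¹], i = 1 ∨ ¬ perp (i * i) v) v y p i d with q | q
  · exact b (comm_of_conj (by simpa [q] using f))
  · exact r1 (a.fpf q hr (comm_of_conj l).symm)

/-- centralised by an element of order three of the normaliser -/
def T3 (x : V →* G) (g : G) : Prop := ∃ y ∈ 𝐍[EE x], y ^ 3 = 1 ∧ y ≠ 1 ∧ Commute y g

theorem T3.cj {x : V →* G} {g k : G} (a : T3 x g) (b : k ∈ 𝐍[EE x]) : T3 x (k * g * k⁻¹) := by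
  obtain ⟨y, c, d, f, i⟩ := a
  exact ⟨_, mul_mem (mul_mem b c) (inv_mem b), cj_pow d, by simpa, Commute.cj i k⟩

namespace XS
variable {φ : K2 →* G} {R : Subgroup G} (h : XS φ R) [Finite G]
include h

local notation "𝐱" => φ.comp fr
local notation "𝐄" => EE (φ.comp fr)

theorem cRR {v w : V} (hv : v ∈ zl) (hw : w ∈ zl) {a b : G} (ha : a ∈ RR 𝐱 v) (hb : b ∈ RR 𝐱 w) :
    Commute a b := by
  rcases (bd! : ∀ v ∈ zl, ∀ w ∈ zl, (w = v ∨ w = v⁻¹) ∨ ∃ k, v = ac k (e 14) ∧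
    (w = ac k (e 16) ∨ w = (ac k (e 16))⁻¹)) v hv w hw with c | ⟨k, rfl, c⟩
  · have : b ∈ RR 𝐱 v := by rcases c with rfl | rfl; exacts [hb, by rwa [RR_inv] at hb]
    exact comm_of_sq ((h.rp hv).mem a ha).1 ((h.rp hv).mem b this).1 ((h.rp hv).mem _ (mul_mem ha this)).1
  · obtain ⟨n, d⟩ := h.full k
    have : b ∈ RR 𝐱 (ac k (e 16)) := by rcases c with rfl | rfl; exacts [hb, by rwa [RR_inv] at hb]
    obtain ⟨a, p, rfl⟩ := RR_act' d ha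
    obtain ⟨b, q, rfl⟩ := RR_act' d this
    exact Commute.cj (h.stepA.1 a p b q) n

theorem cE {a b : G} (ha : a ∈ 𝐄) (hb : b ∈ 𝐄) : Commute a b := by
  refine mem_cent.1 ((closure_le (centralizer {b})).2 ?_ ha)
  rintro a ⟨v, p, q⟩
  refine mem_cent.2 (mem_cent.1 ((closure_le (centralizer {a})).2 ?_ hb)).symm
  rintro b ⟨w, r, s⟩
  exact mem_cent.2 (h.cRR r p s q)

theorem sqE {a : G} (ha : a ∈ 𝐄) : a * a = 1 := by
  induction ha using closure_induction with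
  | mem g b => obtain ⟨v, c, b⟩ := b; exact ((h.rp c).mem g b).1
  | one => simp
  | mul g l p q b c => rw [(h.cE q p).mul_mul_mul_comm, b, c, mul_one]
  | inv g _ b => rw [← mul_inv_rev, b, inv_one]

theorem invE {a : G} (ha : a ∈ 𝐄) : a⁻¹ = a := inv_eq_of_mul_eq_one_right (h.sqE ha)

theorem twoE : IsPGroup 2 𝐄 := isPGroup_iff.2 fun g c => ⟨1, by simpa [pow_two] using h.sqE c⟩

theorem n3E : N3 𝐄 := .two h.twoE

theorem nE : 𝐍[(𝐱).range] ≤ 𝐍[𝐄] := fun n a => (h.mon n a).elim fun _ => EE_act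

theorem mul4 {a b c d a' b' c' d' : G} (hb : b ∈ 𝐄) (hc : c ∈ 𝐄) (hd : d ∈ 𝐄) (ha' : a' ∈ 𝐄)
    (hb' : b' ∈ 𝐄) (hc' : c' ∈ 𝐄) :
    a * b * c * d * (a' * b' * c' * d') = a * a' * (b * b') * (c * c') * (d * d') := by
  rw [(h.cE hd (mul_mem (mul_mem ha' hb') hc')).mul_mul_mul_comm,
    (h.cE hc (mul_mem ha' hb')).mul_mul_mul_comm, (h.cE hb ha').mul_mul_mul_comm]

theorem decE {g : G} (hg : g ∈ 𝐄) : ∃ a ∈ RR 𝐱 (e 13), ∃ b ∈ RR 𝐱 (e 14), ∃ c ∈ RR 𝐱 (e 16),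
    ∃ d ∈ RR 𝐱 (e 17), g = a * b * c * d := by
  induction hg using closure_induction with
  | mem g b =>
    obtain ⟨v, c, b⟩ := b
    obtain ⟨w, d, f⟩ := (bd! : ∀ v ∈ zl, ∃ w ∈ (es [13, 14, 16, 17] : List V), v = w ∨ v = w⁻¹) v c
    replace b : g ∈ RR 𝐱 w := by rcases f with rfl | rfl; exacts [b, by rwa [RR_inv] at b]
    simp only [es, List.map, List.mem_cons, List.not_mem_nil, or_false] at d
    rcases d with rfl | rfl | rfl | rfl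
    exacts [⟨g, b, 1, one_mem _, 1, one_mem _, 1, one_mem _, by simp⟩,
      ⟨1, one_mem _, g, b, 1, one_mem _, 1, one_mem _, by simp⟩,
      ⟨1, one_mem _, 1, one_mem _, g, b, 1, one_mem _, by simp⟩,
      ⟨1, one_mem _, 1, one_mem _, 1, one_mem _, g, b, by simp⟩]
  | one => exact ⟨1, one_mem _, 1, one_mem _, 1, one_mem _, 1, one_mem _, by simp⟩
  | mul g l _ _ p q =>
    obtain ⟨a, a1, b, b1, c, c1, d, d1, rfl⟩ := p
    obtain ⟨a', a2, b', b2, c', c2, d', d2, rfl⟩ := q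
    exact ⟨_, mul_mem a1 a2, _, mul_mem b1 b2, _, mul_mem c1 c2, _, mul_mem d1 d2, h.mul4
      (RR_le bd! b1) (RR_le bd! c1) (RR_le bd! d1) (RR_le bd! a2) (RR_le bd! b2) (RR_le bd! c2)⟩
  | inv g p q => rwa [h.invE p]

theorem RE : R ≤ 𝐄 := h.RR13 ▸ RR_le bd!

theorem cp {k : H} {g : G} (c : Commute g (𝐱 (ac k (e 4)))) :
    ∃ o ∈ 𝐄, ∃ n ∈ 𝐍[(𝐱).range], g = o * n := by
  obtain ⟨m, a⟩ := h.full k
  rw [← a, ← Commute.symm_iff, comm_conj_iff] at c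
  obtain ⟨o, b, n, d, f⟩ := h.stepA.2 _ c.symm
  exact ⟨_, conj_mem_of_mem_normalizer (EE_act a) (sup_le (RR_le bd!) (RR_le bd!) b), m * n * m⁻¹,
    mul_mem (mul_mem a.norm d) (inv_mem a.norm), by rw [conj_mul, ← f]; group⟩

theorem sg {F : Subgroup G} (hF : (Nat.card F).Coprime 3) (n1 : 𝐱 (e 13) ∈ 𝐍[F])
    (n2 : 𝐱 (e 5) ∈ 𝐍[F]) : F ≤ 𝐄 := by
  have pw : ∀ g ∈ F, g ^ Nat.card F = 1 := fun g a =>
    orderOf_dvd_iff_pow_eq_one.1 (F.orderOf_dvd_natCard a)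
  have cm : ∀ g ∈ F, ∀ y ∈ 𝐍[F], g * y * g⁻¹ * y⁻¹ ∈ F := fun g a y b => by
    simpa [mul_assoc] using mul_mem a (conj_mem_of_mem_normalizer b (inv_mem a))
  have fin : ∀ o ∈ 𝐄, ∀ u, o * 𝐱 u ∈ F → o * 𝐱 u ∈ 𝐄 := fun o a u b => by
    rwa [cop_one h.n3E a (EE_x _ u) (xcube _ u) hF (pw _ b), mul_one]
  refine le_of_four (xcube ..) (xcube ..) (xcomm ..) (h.mf.ne1 bd!)
    (fun a => absurd (h.mf.mem_zp_iff.1 a) bd!) n1 n2 hF fun g a b => ?_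
  rw [← map_inv, ← map_mul, ← map_mul] at b
  rcases b with b | b
  · obtain ⟨r, c, k, rfl⟩ := h.cz g (xe φ 13 1 bd! ▸ b)
    obtain ⟨p, q, s⟩ := (bd! : ∀ k : K2, k * e 3 * k⁻¹ ∈ M2 ∧ (k * e 3 * k⁻¹ * (e 3)⁻¹) ^ 3 = 1 ∧
      (k * e 3 * k⁻¹ * (e 3)⁻¹ = 1 → ∃ u, fr u = k)) k
    have d := cm _ a _ n2
    rw [xe φ 5 3 bd!, show r * φ k * φ (e 3) * (r * φ k)⁻¹ = r * φ (k * e 3 * k⁻¹) * r⁻¹ by
      rw [← cjm φ rfl]; group, conj_of_comm (h.cR _ p r c).symm, ← map_inv, ← map_mul] at d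
    obtain ⟨u, rfl⟩ := s (h.inj ((N3.cop hF _ d (pow3 φ q)).trans (map_one φ).symm))
    exact fin r (h.RE c) u a
  · obtain ⟨p, c, b⟩ : ∃ p ∈ ([e 5, e 13 * e 5, e 13 * (e 5)⁻¹] : List V), Commute g (𝐱 p) := by
      rcases b with b | b | b <;> exact ⟨_, by simp, b⟩
    obtain ⟨⟨k, rfl⟩, q⟩ := (bd! : ∀ p ∈ ([e 5, e 13 * e 5, e 13 * (e 5)⁻¹] : List V),
      (∃ k, ac k (e 4) = p) ∧ ∀ l, ac l p * p⁻¹ = 1 → ac l (e 13) * (e 13)⁻¹ = 1 → l = 1) p c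
    obtain ⟨o, d, n, f, rfl⟩ := h.cp b
    obtain ⟨l, i⟩ := h.mon n f
    have key : ∀ u, o * n * 𝐱 u * (o * n)⁻¹ * (𝐱 u)⁻¹ ∈ F → ac l u * u⁻¹ = 1 := fun u j => by
      obtain ⟨o', s, t⟩ := cmod (a := 𝐱 u) d (i u ▸ EE_x _ _)
      rw [i u, ← map_inv 𝐱 u, ← map_mul, map_inv] at t
      exact h.mf.inj ((cop_one h.n3E s (EE_x _ _) (xcube ..) hF (t ▸ pw _ j)).trans (map_one _).symm)
    obtain ⟨u, rfl⟩ := h.mf.mem_of_act (i.cong (q l (key _ (by rw [conj_of_comm b]; simp))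
      (key _ (cm _ a _ n1))))
    exact fin o d u a

theorem φE (k : K2) : φ k ∈ 𝐍[𝐄] := by
  have q : ∀ l ∈ Q2, φ l ∈ 𝐍[cj(φ k, 𝐄)] := fun l a => by
    obtain ⟨m, b⟩ := (bd! : ∀ l ∈ Q2, ∃ m ∈ (es [0, 1, 2] : List H), ∀ v ∈ (es [1, 3, 9] : List V),
      l * fr v * l⁻¹ = fr (ac m v)) (k⁻¹ * l * k) ((bd! : ∀ l ∈ Q2, ∀ k, k⁻¹ * l * k ∈ Q2) l a k)
    rw [normalizer_cj, mem_cj, ← map_inv, ← map_mul, ← map_mul]
    exact EE_act (act_of b.2)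
  exact mem_normalizer_of_cj_le (h.sg (cop_of_isP (by decide) (isPGroup_cj _ h.twoE)) (q _ bd!)
    (q _ bd!))

theorem cY {v : V} (v1 : v ≠ 1) (a : ∀ k, ac k (e 9) ≠ v) (g : G) (c : Commute g (𝐱 v)) : g ∈ 𝐍[𝐄] := by
  obtain ⟨k, rfl | rfl⟩ := (bd! : ∀ v, v ≠ 1 → (∀ k, ac k (e 9) ≠ v) →
    ∃ k, ac k (e 13) = v ∨ ac k (e 4) = v) v v1 a
  · obtain ⟨n, b⟩ := h.full k
    refine cent_conj ⟨n, EE_act b, b⟩ (fun g c => ?_) g c
    obtain ⟨r, d, l, rfl⟩ := h.cz g (xe φ 13 1 bd! ▸ c)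
    exact mul_mem (le_normalizer (h.RE d)) (h.φE l)
  · obtain ⟨o, b, n, d, rfl⟩ := h.cp c
    exact mul_mem (le_normalizer b) (h.nE d)

theorem SY : S2.map φ ≤ 𝐍[𝐄] := by rintro _ ⟨k, -, rfl⟩; exact h.φE k

theorem conjY {M : Subgroup G} (hM : ∀ k, φ k ∈ M) {y : G} (hy : y ∈ M) (y3 : y ^ 3 = 1) :
    ∃ g ∈ M, ∃ v, g * y * g⁻¹ = 𝐱 v := by
  have := Fact.mk Nat.prime_three
  obtain ⟨g, m, a⟩ := (h.syl.mono (by rintro _ ⟨k, -, rfl⟩; exact hM k) le_top).exists_cj_le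
    (isPGroup_zpowers (x := y) ⟨1, by simpa⟩) (zpowers_le.2 hy)
  obtain ⟨k, hk, e1⟩ := a (conj_mem_cj g (mem_zpowers y))
  obtain ⟨d, -, v, e2⟩ := (bd! : ∀ k ∈ S2, k ^ 3 = 1 → ∃ d ∈ (es [0, 27, 81, 216] : List K2),
    ∃ v, fr v = d * k * d⁻¹) k hk (h.inj (by rw [map_pow, e1, cj_pow y3, map_one]))
  refine ⟨φ d * g, mul_mem (hM d) m, v, ?_⟩
  rw [MonoidHom.comp_apply, e2, ← cjm φ rfl, e1]; group

theorem nrmE {v : V} (p : ∀ w ∈ zl, ¬ perp v w) {a : G} (ha : a ∈ 𝐄) :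
    a * (𝐱 v * a * (𝐱 v)⁻¹) * ((𝐱 v)⁻¹ * a * 𝐱 v) = 1 := by
  induction ha using closure_induction with
  | mem g b => obtain ⟨w, c, b⟩ := b; exact (h.rp c).nrm v (p w c) g b
  | one => simp
  | mul g l r q b c =>
    have c1 := fun {g} (r : g ∈ 𝐄) => conj_mem_of_mem_normalizer (EE_x 𝐱 v) r
    have c2 := fun {g} (r : g ∈ 𝐄) => inv_conj_mem_of_mem_normalizer (EE_x 𝐱 v) r
    rw [← conj_mul, show ∀ y : G, y⁻¹ * (g * l) * y = y⁻¹ * g * y * (y⁻¹ * l * y) from fun y => by group,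
      (h.cE q (c1 r)).mul_mul_mul_comm, (h.cE (mul_mem q (c1 q)) (c2 r)).mul_mul_mul_comm, b, c, mul_one]
  | inv g r b => rwa [h.invE r]

theorem fpfE {k : H} {a : G} (ha : a ∈ 𝐄) (c : Commute a (𝐱 (ac k (e 9)))) : a = 1 := by
  have := h.nrmE ((bd! : ∀ k, ∀ w ∈ zl, ¬ perp (ac k (e 9)) w) k) ha
  rwa [conj_of_comm c.symm, h.sqE ha, one_mul, mul_assoc, c.eq, inv_mul_cancel_left] at this

theorem ufY {y : G} (hy : y ∈ 𝐍[𝐄]) (y3 : y ^ 3 = 1) (y1 : y ≠ 1) : UF 𝐍[𝐄] y ∨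
    ∀ g, g * y * g⁻¹ ∈ 𝐍[𝐄] → ∀ a ∈ 𝐄, Commute (g * y * g⁻¹) a → a = 1 := by
  obtain ⟨m, hm, v, b⟩ := h.conjY h.φE hy y3
  have f : ∀ g, g * y * g⁻¹ ∈ 𝐍[𝐄] → ∃ l ∈ 𝐍[𝐄], ∃ k, l * (g * y * g⁻¹) * l⁻¹ = 𝐱 (ac k v) :=
    fun g a => by
      obtain ⟨l, c, u, d⟩ := h.conjY h.φE a (cj_pow y3)
      obtain ⟨k, rfl, -⟩ := h.fus (g := l * g * m⁻¹) (a := v) (a' := u) (b := 1) (b' := 1)
        (by rw [← b, ← d]; group) (by simp)
      exact ⟨l, c, k, d⟩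
  by_cases t : ∀ k, ac k (e 9) ≠ v
  · have c := h.cY (fun a => y1 (by simpa [a] using b)) t
    refine Or.inl (UF.of_cent hy (fun g a => ?_) fun g a => ?_)
    · exact (mul_mem_cancel_left hm).1 ((mul_mem_cancel_right (inv_mem hm)).1
        (c _ (b ▸ Commute.cj a m)))
    · obtain ⟨l, c, k, d⟩ := f g a
      obtain ⟨n, i⟩ := h.full k
      refine ⟨l⁻¹ * n * m, mul_mem (mul_mem (inv_mem c) (EE_act i)) hm, ?_⟩
      rw [show l⁻¹ * n * m * y * (l⁻¹ * n * m)⁻¹ = l⁻¹ * (n * (m * y * m⁻¹) * n⁻¹) * l by group, b, i,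
        ← d]; group
  · push Not at t
    obtain ⟨j, rfl⟩ := t
    refine Or.inr fun g a o c d => ?_
    obtain ⟨l, i, k, f⟩ := f g a
    simpa using h.fpfE (conj_mem_of_mem_normalizer i c) (ac_mul k j _ ▸ f ▸ (Commute.cj d l).symm)

theorem t3x {g : G} {u : V} (u1 : u ≠ 1) (c : Commute g (𝐱 u)) : T3 𝐱 g :=
  ⟨_, EE_x _ u, xcube .., h.mf.ne1 u1, c.symm⟩

theorem t3two {v w : V} (hv : v ∈ zl) (hw : w ∈ zl) {a b : G} (ha : a ∈ RR 𝐱 v) (hb : b ∈ RR 𝐱 w) :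
    T3 𝐱 (a * b) := by
  obtain ⟨u, u1, p, q⟩ := (bd! : ∀ v ∈ zl, ∀ w ∈ zl, ∃ u, u ≠ 1 ∧ perp u v ∧ perp u w) v hv w hw
  exact h.t3x u1 ((((h.rp hv).mem a ha).2 u p).mul_left (((h.rp hw).mem b hb).2 u q))

theorem t3four (k : H) {a b c d : G} (ha : a ∈ RR 𝐱 (ac k (e 13))) (hb : b ∈ RR 𝐱 (ac k (e 14)))
    (hc : c ∈ RR 𝐱 (ac k (e 16))) (hd : d ∈ RR 𝐱 (ac k (e 17))) (b1 : b ≠ 1) (c1 : c ≠ 1)
    (d1 : d ≠ 1) : T3 𝐱 (a * b * c * d) := by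
  obtain ⟨n, f⟩ := h.full k
  replace ha := RR_act' f ha
  replace hb := RR_act' f hb
  replace hc := RR_act' f hc
  replace hd := RR_act' f hd
  obtain ⟨a, ha, rfl⟩ := ha
  obtain ⟨b, hb, rfl⟩ := hb
  obtain ⟨c, hc, rfl⟩ := hc
  obtain ⟨d, hd, rfl⟩ := hd
  rw [conj_mul, conj_mul, conj_mul]
  refine T3.cj ?_ (EE_act f)
  rw [Ne, conj_eq_one_iff] at b1 c1 d1
  have ρ : Act 𝐱 (φ (e 5)) (e 1) := act_of bd!
  have ρ3 : φ (e 5) ^ 3 = 1 := pow3 φ bd!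
  have p := (bd! : ac (e 1) (e 14) = e 16) ▸ RR_act ρ hb
  have q := RR_act ρ p
  rw [(bd! : ac (e 1) (e 16) = (e 17)⁻¹), RR_inv] at q
  obtain ⟨i, i1, rfl⟩ := (h.rp bd!).irr' (y := e 10) bd! p (by simpa) hc c1
  obtain ⟨j, j1, rfl⟩ := (h.rp bd!).irr' (y := e 4) bd! q (by simpa) hd d1
  obtain ⟨s1, s2, s3⟩ := (bd! : ∀ i ∈ ([1, e 10, (e 10)⁻¹] : List V), ∀ j ∈ ([1, e 4, (e 4)⁻¹] : List V),
    perp (i * j) (e 14) ∧ perp j (e 16) ∧ perp i (e 17)) i i1 j j1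
  have t1 := conj_of_comm (((h.rp bd!).mem _ hb).2 _ s1).symm
  have t2 := conj_of_comm (((h.rp bd!).mem _ p).2 _ s2).symm
  have t3 := conj_of_comm (((h.rp bd!).mem _ q).2 _ s3).symm
  have a0 := inv_conj_mem_of_mem_normalizer (RR_x (i * j) _) ha
  have t4 := conj_of_comm (h.cR (e 5) bd! _ (h.RR13 ▸ a0))
  have t5 : φ (e 5) * (φ (e 5) * (φ (e 5) * b * (φ (e 5))⁻¹) * (φ (e 5))⁻¹) * (φ (e 5))⁻¹ = b := by
    rw [show ∀ y : G, y * (y * (y * b * y⁻¹) * y⁻¹) * y⁻¹ = y ^ 3 * b * (y ^ 3)⁻¹ from fun y => by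
      simp only [pow_succ, pow_zero]; group, ρ3]; simp
  have cb := (h.cE (mul_mem (RR_le bd! p) (RR_le bd! q)) (RR_le bd! hb)).eq
  have := T3.cj (x := 𝐱) (g := (𝐱 (i * j))⁻¹ * a * 𝐱 (i * j) * b * (φ (e 5) * b * (φ (e 5))⁻¹) *
    (φ (e 5) * (φ (e 5) * b * (φ (e 5))⁻¹) * (φ (e 5))⁻¹)) ⟨_, h.φE (e 5), ρ3, fun a =>
      absurd (h.inj (a.trans (map_one φ).symm)) bd!, comm_of_conj (by
        rw [← conj_mul, ← conj_mul, ← conj_mul, t4, t5, show ∀ A P Q : G, A * P * Q * b =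
          A * (P * Q * b) from fun _ _ _ => by group, cb]
        group)⟩ (EE_x _ (i * j))
  rw [← conj_mul, ← conj_mul, ← conj_mul, t1] at this
  convert this using 2
  · congr 1
    · group
    · nth_rw 1 [← t2]; rw [map_mul]; group
  · nth_rw 1 [← t3]; rw [map_mul, (xcomm _ i j).eq]; group

theorem t3E {g : G} (hg : g ∈ 𝐄) : T3 𝐱 g := by
  obtain ⟨a, ha, b, hb, c, hc, d, hd, rfl⟩ := h.decE hg
  have e1 := RR_le (x := 𝐱) (v := e 13) bd! ha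
  have e2 := RR_le (x := 𝐱) (v := e 14) bd! hb
  have e3 := RR_le (x := 𝐱) (v := e 16) bd! hc
  have e4 := RR_le (x := 𝐱) (v := e 17) bd! hd
  have t := fun k (p q r s : V) (f : ac k (e 13) = p ∧ ac k (e 14) = q ∧ ac k (e 16) = r ∧
    ac k (e 17) = s) {a b c d : G} (ha : a ∈ RR 𝐱 p) (hb : b ∈ RR 𝐱 q) (hc : c ∈ RR 𝐱 r)
    (hd : d ∈ RR 𝐱 s) => h.t3four k (f.1 ▸ ha) (f.2.1 ▸ hb) (f.2.2.1 ▸ hc) (f.2.2.2 ▸ hd)
  have two : ∀ {v w a b}, v ∈ zl → w ∈ zl → a ∈ RR 𝐱 v → b ∈ RR 𝐱 w → T3 𝐱 (a * b) :=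
    fun p q r s => h.t3two p q r s
  have o := fun v => one_mem (RR 𝐱 v)
  by_cases b1 : b = 1
  · by_cases a1 : a = 1
    · simpa [a1, b1] using two bd! bd! hc hd
    by_cases c1 : c = 1
    · simpa [c1, b1] using two bd! bd! ha hd
    by_cases d1 : d = 1
    · simpa [d1, b1] using two bd! bd! ha hc
    have := t (e 6) (e 14) _ _ _ bd! (o _) ha hd hc a1 d1 c1
    rwa [b1, mul_one, mul_assoc, ← (h.cE e4 e3).eq, ← mul_assoc, ← one_mul a]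
  by_cases c1 : c = 1
  · by_cases a1 : a = 1
    · simpa [a1, c1] using two bd! bd! hb hd
    by_cases d1 : d = 1
    · simpa [d1, c1] using two bd! bd! ha hb
    have := t (e 12) (e 16) _ _ _ bd! (o _) hd ha hb d1 a1 b1
    rwa [c1, mul_one, (h.cE (mul_mem e1 e2) e4).eq, ← mul_assoc, ← one_mul d]
  by_cases d1 : d = 1
  · by_cases a1 : a = 1
    · simpa [a1, d1] using two bd! bd! hb hc
    have := t (e 18) (e 17) _ _ _ bd! (o _) hc hb ha c1 b1 a1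
    rwa [d1, mul_one, (h.cE (mul_mem e1 e2) e3).eq, (h.cE e1 e2).eq, ← mul_assoc, ← one_mul c]
  exact t 1 _ _ _ _ bd! ha hb hc hd b1 c1 d1

theorem back {a g : G} (ha : a ∈ 𝐄) (t : T3 𝐱 (g * a * g⁻¹)) : g * a * g⁻¹ ∈ 𝐄 := by
  have := Fact.mk Nat.prime_three
  by_cases a1 : a = 1
  · simp [a1]
  obtain ⟨r, b, r3, r1, c⟩ := h.t3E ha
  obtain ⟨y, d, y3, y1, f⟩ := t
  obtain ⟨k, i, j⟩ := exists_conj_mem (((h.ufY b r3 r1).resolve_right fun l =>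
    a1 (l 1 (by simpa) a ha (by simpa))).not_dvd r3 (mem_cent.2 c)) (x := g⁻¹ * y * g⁻¹⁻¹)
    (mem_cent.2 (by simpa [mul_assoc] using Commute.cj f g⁻¹)) (cj_pow y3)
  have e1 : k * (g⁻¹ * y * g⁻¹⁻¹) * k⁻¹ = k * g⁻¹ * y * (k * g⁻¹)⁻¹ := by group
  rw [e1] at j
  have := ((h.ufY d y3 y1).resolve_right fun l => a1 (l _ j a ha (by
    rw [← e1, ← conj_of_comm (mem_cent.1 i)]
    exact Commute.cj (by simpa [mul_assoc] using Commute.cj f g⁻¹) k))).2 _ j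
  have := inv_conj_mem_of_mem_normalizer this ha
  rwa [show (k * g⁻¹)⁻¹ * a * (k * g⁻¹) = g * (k⁻¹ * a * k⁻¹⁻¹) * g⁻¹ by group,
    conj_of_comm (mem_cent.1 i).inv_left] at this

end XS

end Cfsg.Agent.Co2L
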