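import Cfsg.Agent.Co2L.XC

/-!
The normaliser of the maximal signaliser modulo the signaliser; its involutions.
-/

set_option autoImplicit false
set_option maxRecDepth 100000
set_option synthInstance.maxHeartbeats 400000
set_option synthInstance.maxSize 4000

namespace Cfsg.Agent.Co2L

open Subgroup Cfsg Cfsg.Agent.Comp Cfsg.Agent.X32.TG Cfsg.Agent.PLocal.Amb
open Cfsg.Agent.Loc3 Cfsg.Agent.Loc3.Pr
open Cfsg.Agent.X32 (TG Tab sub Mem)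
open Cfsg.Agent.PS4 (K2 J2 S2 Q2 cjm pow3)

variable {G : Type*} [Group G]

theorem conj2' [Finite G] {K : Subgroup G} (hK : IsPGroup 3 K) {a b : G} (ha : a * a = 1) (hb : b * b = 1)
    (h : a * b ∈ K) : ∃ k ∈ K, k * b * k⁻¹ = a := by
  obtain ⟨m, hm⟩ := isPGroup_iff.1 hK _ h
  obtain ⟨n, hn⟩ := Inv.exists_conj_of_odd_orderOf_mul ha hb
    (Odd.of_dvd_nat (Odd.pow (by decide)) (orderOf_dvd_of_pow_eq_one hm))
  exact ⟨_, pow_mem h n, hn⟩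

theorem p3x (x : V →* G) : IsPGroup 3 x.range :=
  isPGroup_iff.2 (by rintro _ ⟨v, rfl⟩; exact ⟨1, by simpa using xcube x v⟩)

theorem T3.of_cj {x : V →* G} {g k : G} (a : T3 x (k * g * k⁻¹)) (b : k ∈ 𝐍[EE x]) : T3 x g := by
  simpa [mul_assoc] using a.cj (inv_mem b)

namespace XS
variable {φ : K2 →* G} {R : Subgroup G} (h : XS φ R) [Finite G]
include h

local notation "𝐱" => φ.comp fr
local notation "𝐄" => EE (φ.comp fr)

theorem disjE {k : K2} (a : φ k ∈ 𝐄) : k = 1 := by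
  have c : ∀ l ∈ Q2, Commute l k := fun l b => by
    have := h.n3E (φ (l * k * l⁻¹ * k⁻¹)) (by
      rw [map_mul, ← cjm φ rfl, map_inv]
      exact mul_mem (conj_mem_of_mem_normalizer (h.φE l) a) (inv_mem a))
      (pow3 φ ((bd! : ∀ l ∈ Q2, ∀ k : K2, (l * k * l⁻¹ * k⁻¹) ^ 3 = 1) l b k))
    exact comm_of_conj (mul_inv_eq_one.1 (h.inj (this.trans (map_one φ).symm)))
  exact (bd! : ∀ k : K2, k * k = 1 → Commute (e 3) k → Commute (e 5) k → k = 1) k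
    (h.inj (by rw [map_mul, h.sqE a, map_one])) (c _ bd!) (c _ bd!)

theorem disjR {v w : V} (hv : v ∈ zl) (hw : w ∈ zl) (c : ¬ (w = v ∨ w = v⁻¹)) {a : G}
    (p : a ∈ RR 𝐱 v) (q : a ∈ RR 𝐱 w) : a = 1 := by
  obtain ⟨y, r, s⟩ := (bd! : ∀ v ∈ zl, ∀ w ∈ zl, ¬ (w = v ∨ w = v⁻¹) → ∃ y, perp y w ∧ ¬ perp y v)
    v hv w hw c
  exact (h.rp hv).fpf s p (((h.rp hw).mem a q).2 y r)

theorem frat3 {g y a : G} (hy : y ∈ 𝐍[𝐄]) (y3 : y ^ 3 = 1) (a3 : a ^ 3 = 1)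
    (c : g * a * g⁻¹ * y⁻¹ ∈ 𝐄) : ∃ k ∈ 𝐄, k * g * a * (k * g)⁻¹ = y := by
  have d := cj_pow (g := g) a3
  obtain ⟨o, f⟩ : ∃ o, g * a * g⁻¹ = o * y := ⟨g * a * g⁻¹ * y⁻¹, by simp⟩
  rw [f, mul_inv_cancel_right] at c
  have c1 := conj_mem_of_mem_normalizer hy c
  refine ⟨_, c1, ?_⟩
  rw [show y * o * y⁻¹ * g * a * (y * o * y⁻¹ * g)⁻¹ = y * o * y⁻¹ * (g * a * g⁻¹) * (y * o * y⁻¹)⁻¹ by
    group, f, h.invE c1, ← mul_assoc _ o, (h.cE c1 c).eq]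
  rw [f] at d
  calc _ = (o * y) ^ 3 * (y ^ 3)⁻¹ * y := by simp only [pow_succ, pow_zero]; group
    _ = y := by rw [d, y3]; simp

/-- Frattini argument -/
theorem nJ {g : G} (a : ∀ u, ∃ v, g * 𝐱 u * g⁻¹ * (𝐱 v)⁻¹ ∈ 𝐄) :
    ∃ o ∈ 𝐄, o * g ∈ 𝐍[(𝐱).range] := by
  obtain ⟨v, b⟩ := a (e 9)
  obtain ⟨o, c, d⟩ := h.frat3 (EE_x _ v) (xcube ..) (xcube ..) b
  obtain ⟨k, rfl, -⟩ := h.fus (b := 1) (b' := 1) d (by simp)
  refine ⟨o, c, mem_normalizer_fintype ?_⟩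
  rintro _ ⟨u, rfl⟩
  obtain ⟨w, f⟩ := a u
  have i : o * g * 𝐱 u * (o * g)⁻¹ * (𝐱 w)⁻¹ ∈ 𝐄 := by
    simpa [mul_assoc] using mul_mem (mul_mem c f) (conj_mem_of_mem_normalizer (EE_x 𝐱 w) (inv_mem c))
  exact ⟨w, (mul_inv_eq_one.1 (h.fpfE i ((d ▸ Commute.cj (xcomm _ u _) _).mul_left
    (xcomm _ w _).inv_left))).symm⟩

section
variable {X : Type*} [Group X] {π : G → X} (p : PH 𝐍[EE (φ.comp fr)] (EE (φ.comp fr)) π)

/-- the frame in the quotient -/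
noncomputable def bar : K2 →* X := MonoidHom.mk' (fun k => π (φ k)) fun k l => by
  rw [map_mul, p.mul (h.φE k) (h.φE l)]

theorem bar_x (v : V) : (h.bar p).comp fr v = π (𝐱 v) := rfl

theorem bar_act {n : G} {k : H} (a : Act 𝐱 n k) : Act ((h.bar p).comp fr) (π n) k := fun v => by
  rw [bar_x, bar_x, ← p.map_conj (EE_act a) (EE_x _ v), a v]

theorem bar_nJ {g : G} (hg : g ∈ 𝐍[𝐄]) (a : π g ∈ 𝐍[((h.bar p).comp fr).range]) :
    ∃ o ∈ 𝐄, o * g ∈ 𝐍[(𝐱).range] := h.nJ fun u => by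
  obtain ⟨v, b⟩ := conj_mem_of_mem_normalizer a (xm _ u)
  rw [bar_x, bar_x, ← p.map_conj hg (EE_x _ u)] at b
  exact ⟨v, (p.eq_iff (mul_mem (mul_mem hg (EE_x _ u)) (inv_mem hg)) (EE_x _ v)).1 b.symm⟩

theorem ps [Finite X] : PS (h.bar p) := by
  have inj : Function.Injective (h.bar p) :=
    (injective_iff_map_eq_one _).2 fun k a => h.disjE ((p.ker (h.φE k)).1 a)
  have cu : ∀ g, Commute g (h.bar p (e 1)) → g ∈ (h.bar p).range := fun g c => by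
    obtain ⟨g, hg, rfl⟩ := p.surj g
    obtain ⟨o, a, b⟩ := h.frat3 (g := g) (a := φ (e 1)) (h.φE (e 1)) (pow3 φ bd!) (pow3 φ bd!) ((p.eq_iff
      (mul_mem (mul_mem hg (h.φE _)) (inv_mem hg)) (h.φE _)).1 (by
        rw [p.map_conj hg (h.φE _)]; exact conj_of_comm c))
    obtain ⟨r, d, k, f⟩ := h.cz _ (comm_of_conj b)
    refine ⟨k, ((p.eq_iff hg (h.φE k)).2 ?_).symm⟩
    rw [eq_inv_mul_of_mul_eq f, mul_assoc, mul_inv_cancel_right]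
    exact mul_mem (inv_mem a) (h.RE d)
  refine ⟨inj, cu, inj.comp ((injective_iff_map_eq_one _).2 bd!), fun g c => ?_, fun n a => ?_,
    fun K a b => ?_⟩
  · obtain ⟨k, rfl⟩ := cu g (xe (h.bar p) 13 1 bd! ▸ c _)
    obtain ⟨v, rfl⟩ := (bd! : ∀ k : K2, Commute k (fr (e 1)) → Commute k (fr (e 3)) → ∃ v, fr v = k) k
      (Commute.of_map inj (c _)) (Commute.of_map inj (c _))
    exact ⟨v, rfl⟩
  · obtain ⟨n, hn, rfl⟩ := p.surj n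
    obtain ⟨o, b, c⟩ := h.bar_nJ p hn a
    obtain ⟨k, d⟩ := h.mon _ c
    exact ⟨k, by simpa [p.mul (p.le b) hn, p.of_mem b] using h.bar_act p d⟩
  · have n : ∀ u, 𝐱 u ∈ 𝐍[(K.comap p.hom).map (𝐍[𝐄]).subtype] := fun u => mem_normalizer_fintype (by
      rintro _ ⟨k, c, rfl⟩
      refine ⟨⟨_, mul_mem (mul_mem (EE_x _ u) k.2) (inv_mem (EE_x _ u))⟩, ?_, rfl⟩
      change π _ ∈ K
      rw [p.map_conj (EE_x _ u) k.2]
      exact conj_mem_of_mem_normalizer (b (xm _ u)) c)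
    have := h.sg (F := (K.comap p.hom).map (𝐍[𝐄]).subtype) (by
      rw [← Nat.card_congr (equivMapOfInjective _ _ (subtype_injective _)).toEquiv]
      refine Grp.coprime_card_comap _ _ a (cop_of_isP (p := 2) (by decide) (isPGroup_iff.2 fun g c =>
        ⟨1, Subtype.ext ?_⟩))
      simpa [pow_two] using h.sqE ((p.ker g.2).1 c)) (n _) (n _)
    refine eq_bot_iff.2 fun k c => ?_
    obtain ⟨k, d, rfl⟩ := p.surj k
    exact p.of_mem (this ⟨⟨k, d⟩, c, rfl⟩)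

include p in
theorem plus' [Finite X] : (∀ w ∈ 𝐍[𝐄], w * w = 1 → ∃ g ∈ 𝐍[𝐄], ∃ o ∈ 𝐄,
    o * (g * w * g⁻¹) ∈ 𝐍[(𝐱).range]) ∧ ∀ ε ∈ 𝐍[𝐄], Commute ε (𝐱 (e 9)) → ε ∉ 𝐍[(𝐱).range] →
      Nonempty (X ≃* S62) := by
  have f : ∀ k, k ∈ Gam ((h.bar p).comp fr) ⊤ := fun k =>
    (h.full k).elim fun n a => ⟨_, trivial, h.bar_act p a⟩
  obtain ⟨ν, t, b⟩ := (h.ps p).exists_B2 (f _) (f _)
  refine ⟨fun w a c => ?_, fun ε a c d => (plus b).2.resolve_right fun i => d ?_⟩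
  · obtain ⟨g, d⟩ := (plus b).1 (π w) (by rw [← p.mul a a, c, p.map_one])
    obtain ⟨g, hg, rfl⟩ := p.surj g
    exact ⟨g, hg, h.bar_nJ p (mul_mem (mul_mem hg a) (inv_mem hg)) (p.map_conj hg a ▸ d)⟩
  · obtain ⟨o, j, l⟩ := h.bar_nJ p a (i _ (comm_of_conj (by
      rw [bar_x, ← p.map_conj a (EE_x _ _), conj_of_comm c])))
    obtain ⟨k, m⟩ := h.mon _ l
    obtain ⟨o', r, s⟩ := cmod (n := ε) (a := 𝐱 (e 9)) j (by rw [conj_of_comm c]; exact EE_x _ _)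
    rw [conj_of_comm c, mul_inv_cancel, mul_one, m, ← map_inv, ← map_mul] at s
    rw [h.n3E _ r (s ▸ xcube ..), map_mul, map_inv, mul_inv_eq_one, ← m] at s
    rwa [h.fpfE (k := 1) j (by simpa [ac_one] using (comm_of_conj s).mul_left c.inv_left),
      one_mul] at l

end

omit h [Finite G] in
theorem exists_bar : ∃ π : G → ↥𝐍[𝐄] ⧸ (𝐄).subgroupOf 𝐍[𝐄], PH 𝐍[𝐄] 𝐄 π :=
  PH.of_equiv le_normalizer (MulEquiv.refl _)

theorem cls {w : G} (hw : w ∈ 𝐍[𝐄]) (w2 : w * w = 1) : T3 𝐱 w ∨ ∃ g ∈ 𝐍[𝐄], ∃ a ∈ RR 𝐱 (e 13),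
    ∃ d ∈ RR 𝐱 (e 17), a ≠ 1 ∧ d ≠ 1 ∧ g * w * g⁻¹ = a * d * φ (e 189) := by
  obtain ⟨π, p⟩ := exists_bar (φ := φ)
  obtain ⟨g, hg, o, ho, hn⟩ := (h.plus' p).1 w hw w2
  suffices ∀ n k, Act 𝐱 n k → n * n = 1 → ∀ o ∈ 𝐄, Commute o n → T3 𝐱 (o * n) ∨ ∃ g ∈ 𝐍[𝐄],
      ∃ a ∈ RR 𝐱 (e 13), ∃ d ∈ RR 𝐱 (e 17), a ≠ 1 ∧ d ≠ 1 ∧ g * (o * n) * g⁻¹ = a * d * φ (e 189) by
    obtain ⟨k, a⟩ := h.mon _ hn
    have w' : g * w * g⁻¹ * (g * w * g⁻¹) = 1 := X32.conj_sq w2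
    have m : g * w * g⁻¹ ∈ 𝐍[𝐄] := mul_mem (mul_mem hg hw) (inv_mem hg)
    have e1 : o * (g * w * g⁻¹) * (o * (g * w * g⁻¹)) = o * (g * w * g⁻¹ * o * (g * w * g⁻¹)⁻¹) := by
      rw [inv_eq_of_mul_eq_one_right w']; group
    have n2 := h.mf.eq_one h.n3E (EE_x _) (e1 ▸ mul_mem ho (conj_mem_of_mem_normalizer m ho))
      (mul_mem hn hn)
    rcases this _ k a n2 o ho ((Commute.refl o).mul_right (comm_of_sq (h.sqE ho) w' n2)) with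
      b | ⟨l, c, b⟩ <;> rw [← mul_assoc o, h.sqE ho, one_mul] at b
    exacts [Or.inl (b.of_cj hg), Or.inr ⟨l * g, mul_mem c hg, by
      rwa [show l * g * w * (l * g)⁻¹ = l * (g * w * g⁻¹) * l⁻¹ by group]⟩]
  intro n k a n2 o ho c
  have k2 : k * k = 1 := (a.mul a).eq h.mf.inj (n2 ▸ Act.one)
  rcases (bd! : ∀ k : H, k * k = 1 → k = 1 ∨ (∃ l, l * k * l⁻¹ = e 3) ∨
    (∃ y, (∀ w ∈ zl, ¬ perp y w) ∧ ac k y = y⁻¹) ∧ (k = e 42 ∨ ∃ u, u ≠ 1 ∧ ac k u = u)) k k2 with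
    rfl | ⟨l, b⟩ | ⟨⟨y, b, d⟩, f⟩
  · obtain ⟨u, rfl⟩ := h.mf.mem_of_act a
    rw [eq_one_of_two_three (k := 1) (d := 𝐱 u) (by simpa [pow_two]) (xcube ..), mul_one]
    exact Or.inl (h.t3E ho)
  · obtain ⟨m, d⟩ := h.full l
    have σ : Act 𝐱 (φ (e 189)) (e 3) := act_of bd!
    have σ2 : φ (e 189) * φ (e 189) = 1 := by rw [← map_mul, (bd! : (e 189 * e 189 : K2) = 1), map_one]
    obtain ⟨_, ⟨u, rfl⟩, f⟩ := conj2' (p3x 𝐱) σ2 (X32.conj_sq n2)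
      (h.mf.mem_of_act ((σ.mul ((d.mul a).mul d.inv)).cong (by rw [b]; exact bd!)))
    have i : 𝐱 u * m ∈ 𝐍[𝐄] := mul_mem (EE_x _ u) (EE_act d)
    have j : 𝐱 u * m * n * (𝐱 u * m)⁻¹ = φ (e 189) := by rw [← f]; group
    have q := j ▸ Commute.cj c (𝐱 u * m)
    obtain ⟨a, ha, b, hb, c, hc, d, hd, r⟩ := h.decE (conj_mem_of_mem_normalizer i ho)
    have s1 := h.cR (e 189) bd! a (h.RR13 ▸ ha)
    have s4 := (h.rp bd!).cent2 (y := e 13) bd! σ2 (RR_norm σ (Or.inl bd!)) (σ.comm bd!) hd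
    have s2 := (bd! : ac (e 3) (e 14) = e 16) ▸ RR_act σ hb
    have s3 := (bd! : ac (e 3) (e 16) = e 14) ▸ RR_act σ hc
    have eb := RR_le (x := 𝐱) (v := e 14) bd! hb
    have t : b * c = φ (e 189) * b * (φ (e 189))⁻¹ * (φ (e 189) * c * (φ (e 189))⁻¹) := by
      have := conj_of_comm (r ▸ q).symm
      rw [← conj_mul, ← conj_mul, ← conj_mul, conj_of_comm s1, conj_of_comm s4, mul_left_inj,
        mul_assoc a, mul_assoc a, mul_right_inj] at this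
      exact this.symm
    rw [(h.cE (RR_le bd! s2) (RR_le bd! s3)).eq] at t
    have t' : (φ (e 189) * c * (φ (e 189))⁻¹)⁻¹ * b = φ (e 189) * b * (φ (e 189))⁻¹ * c⁻¹ := by
      rw [inv_mul_eq_iff_eq_mul, ← mul_assoc, ← t, mul_inv_cancel_right]
    have t2 := mul_inv_eq_one.1 (t' ▸ h.disjR (v := e 14) (w := e 16) bd! bd! bd!
      (mul_mem (inv_mem s3) hb) (t' ▸ mul_mem s2 (inv_mem hc)))
    have fin : b * (𝐱 u * m) * (o * n) * (b * (𝐱 u * m))⁻¹ = a * d * φ (e 189) := by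
      rw [show ∀ y : G, b * y * (o * n) * (b * y)⁻¹ = b * (y * o * y⁻¹) * (y * n * y⁻¹) * b⁻¹ from
        fun y => by group, r, j, ← t2, mul_assoc _ _ d, (h.cE (RR_le bd! s2) (RR_le bd! hd)).eq,
        (h.cE (RR_le bd! ha) eb).eq, h.invE eb]
      calc _ = b * b * (a * d * φ (e 189)) * (b * b) := by group
        _ = _ := by rw [h.sqE eb]; simp
    have i' : b * (𝐱 u * m) ∈ 𝐍[𝐄] := mul_mem (le_normalizer eb) i
    by_cases a1 : a = 1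
    · refine Or.inl (T3.of_cj ?_ i')
      rw [fin, a1, one_mul]
      exact h.t3x (u := e 17) bd! ((((h.rp bd!).mem d hd).2 _ bd!).mul_left (σ.comm bd!))
    by_cases d1 : d = 1
    · refine Or.inl (T3.of_cj ?_ i')
      rw [fin, d1, mul_one]
      exact h.t3x (u := e 13) bd! ((((h.rp bd!).mem a ha).2 _ bd!).mul_left (σ.comm bd!))
    exact Or.inr ⟨_, i', a, ha, d, hd, a1, d1, fin⟩
  · have i := a.inverts d
    have j := h.nrmE b ho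
    have l := conj_mem_of_mem_normalizer (EE_x 𝐱 y) ho
    have r : o * n = 𝐱 y * o * (𝐱 y)⁻¹ * n * (𝐱 y * o * (𝐱 y)⁻¹)⁻¹ := by
      have : (𝐱 y)⁻¹ * o * 𝐱 y = n * (𝐱 y * o * (𝐱 y)⁻¹) * n⁻¹ := by
        rw [← conj_mul, ← conj_mul, i, conj_inv', i, inv_inv, conj_of_comm c.symm]
      rw [this, mul_assoc, ← h.sqE ho, mul_right_inj] at j
      rw [h.invE l]
      nth_rw 1 [← j]
      group
    rw [r]
    refine Or.inl (T3.cj ?_ (le_normalizer l))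
    rcases f with rfl | ⟨u, u1, f⟩
    · have ρ : Act 𝐱 (φ (e 5)) (e 1) := act_of bd!
      obtain ⟨_, ⟨u, rfl⟩, f⟩ := frat2 (p3x 𝐱) n2
        (h.mf.mem_of_act ((a.mul ((ρ.mul a).mul ρ.inv)).cong bd!))
      have s := (Act.self u).mul ρ
      obtain ⟨v, t⟩ := h.mf.mem_of_act ((s.pow 3).cong bd!)
      refine ⟨_, EE_act s, ?_, fun q => absurd (s.eq h.mf.inj (q ▸ Act.one)) bd!, f⟩
      rw [← t, (bd! : ∀ v, ac (e 42) v = v → v = 1) v (a.fix h.mf.inj (t ▸ (f.pow_left 3).symm)), map_one]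
    · exact h.t3x u1 (a.comm f)

end XS

end Cfsg.Agent.Co2L
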